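import Cfsg.Agent.Lib.Helper42.CYA.Defs
import Cfsg.Agent.Lib.Helper11.NPC

/-! Ladder CYA (S4016), rung BURN. -/

namespace Cfsg.Agent.Lib.Helper42.CYA

open Subgroup

variable {G : Type*} [Group G] [Finite G] {p : ℕ} [Fact p.Prime]

/-- BURN: Burnside in a nonabelian simple group. -/
theorem burnside_simple [IsSimpleGroup G] (hna : ∃ a b : G, a * b ≠ b * a) {r : ℕ} [Fact r.Prime]
    (R : Sylow r G) (hR : (R : Subgroup G) ≠ ⊥) :
    ¬ normalizer ((R : Subgroup G) : Set G) ≤ centralizer ((R : Subgroup G) : Set G) := by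
  intro h
  have hc := MonoidHom.ker_transferSylow_isComplement' R h
  rcases (MonoidHom.normal_ker (MonoidHom.transferSylow R h)).eq_bot_or_eq_top with h1 | h1
  · rw [h1, isComplement'_bot_left] at hc
    obtain ⟨a, b, hab⟩ := hna
    apply hab
    have ha : a ∈ normalizer ((R : Subgroup G) : Set G) := le_normalizer (by rw [hc]; trivial)
    have hb : b ∈ (R : Subgroup G) := by rw [hc]; trivial
    exact ((mem_centralizer_iff.mp (h ha)) b hb).symm
  · rw [h1, isComplement'_top_left] at hc
    exact hR hc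

/-- normal `p`-complement + abelian Sylow: `N(P) = C(P)`. -/
theorem npc_normalizer_le (hn : Cfsg.HasNormalPComplement p G) (P : Sylow p G)
    (hab : IsMulCommutative P) :
    normalizer ((P : Subgroup G) : Set G) ≤ centralizer ((P : Subgroup G) : Set G) := by
  obtain ⟨N, hN, hc⟩ := Cfsg.Agent.Lib.Helper11.isComplement'_of_hasNormalPComplement hn P
  intro x hx
  obtain ⟨s, hs, h⟩ := Cfsg.Agent.Lib.Helper11.conj_eq_of_complement N P hN hc x
  rw [mem_centralizer_iff]
  intro a ha
  have h1 : x * a * x⁻¹ ∈ (P : Subgroup G) := (mem_normalizer_iff.mp hx a).mp ha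
  have h2 := h a ha h1
  have h3 : s * a = a * s := congrArg Subtype.val (hab.is_comm.comm ⟨s, hs⟩ ⟨a, ha⟩)
  have h4 : x * a * x⁻¹ = a := by rw [h2, h3]; group
  calc a * x = (x * a * x⁻¹) * x := by rw [h4]
    _ = x * a := by group

/-- Burnside: `N(P) ≤ C(P)` gives a normal `p`-complement. -/
theorem npc_of_normalizer_le (P : Sylow p G)
    (h : normalizer ((P : Subgroup G) : Set G) ≤ centralizer ((P : Subgroup G) : Set G)) :
    Cfsg.HasNormalPComplement p G :=
  ⟨P, _, MonoidHom.normal_ker _, MonoidHom.ker_transferSylow_isComplement' P h⟩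

end Cfsg.Agent.Lib.Helper42.CYA
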