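import Cfsg.Agent.Lib.Helper42.CYA.Defs
import Cfsg.Agent.Lib.Helper42.CYA.BURN

/-! Ladder CYA (S4016), rung BAS. -/

namespace Cfsg.Agent.Lib.Helper42.CYA

open Subgroup

variable {G : Type*} [Group G] [Finite G] {p : ℕ} [Fact p.Prime]

omit [Finite G] [Fact p.Prime] in
/-- BAS: basic facts on a minimal counterexample -/
theorem MC.nonab (h : MC p G) : ∃ a b : G, a * b ≠ b * a := by
  by_contra hc
  push Not at hc
  apply h.nc
  right
  intro P
  refine ⟨fun n hn g => ?_⟩
  rw [hc g n]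
  simpa using hn

omit [Finite G] [Fact p.Prime] in
theorem MC.ne_bot (h : MC p G) (P : Sylow p G) : (P : Subgroup G) ≠ ⊥ := by
  intro hP
  apply h.nc
  left
  exact ⟨P, ⊤, inferInstance, isComplement'_top_left.mpr hP⟩

theorem MC.p_ne_two (h : MC p G) : p ≠ 2 := by
  rintro rfl
  obtain ⟨P⟩ : Nonempty (Sylow 2 G) := inferInstance
  have hP := h.ne_bot P
  have h2 : 2 ∣ Nat.card G := by
    have h3 : Nat.card (P : Subgroup G) ≠ 1 := fun h1 => hP (Subgroup.card_eq_one.mp h1)
    obtain ⟨n, hn⟩ := IsPGroup.iff_card.mp P.isPGroup'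
    have h4 : 2 ∣ Nat.card (P : Subgroup G) := by
      rw [hn] at h3 ⊢
      cases n with
      | zero => simp at h3
      | succ n => exact dvd_pow_self 2 (Nat.succ_ne_zero n)
    exact h4.trans (Subgroup.card_subgroup_dvd_card _)
  have hmin : (Nat.card G).minFac = 2 := (Nat.minFac_eq_two_iff _).mpr h2
  apply h.nc
  left
  exact npc_of_normalizer_le P (IsCyclic.normalizer_le_centralizer hmin (h.hyp.1 P))

end Cfsg.Agent.Lib.Helper42.CYA
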