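import Cfsg.Agent.Lib.Helper42.CYA.Defs
import Cfsg.Agent.Lib.Helper80.Cores

/-! Ladder CYA (S4016), rung COMM. -/

namespace Cfsg.Agent.Lib.Helper42.CYA

open Subgroup

variable {G : Type*} [Group G] [Finite G] {p : ℕ} [Fact p.Prime]

/-- COMM: a `p'`-element normalizing a `p'`-subgroup centralizes it. -/
theorem comm_of_normalizes (hab : ∀ H : Subgroup G, ¬ p ∣ Nat.card H → IsMulCommutative H)
    (V : Subgroup G) (hV : ¬ p ∣ Nat.card V) (y : G) (hy : y ∈ normalizer (V : Set G))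
    (hyp : (orderOf y).Coprime p) : ∀ v ∈ V, Commute y v := by
  have hpp : p.Prime := Fact.out
  have hle : zpowers y ≤ normalizer (V : Set G) := by
    rw [zpowers_le]; exact hy
  have hcard : Nat.card (zpowers y ⊔ V : Subgroup G) ∣ Nat.card (zpowers y) * Nat.card V :=
    Cfsg.Agent.Lib.Helper80.card_sup_dvd' _ _ hle
  have hnd : ¬ p ∣ Nat.card (zpowers y ⊔ V : Subgroup G) := by
    intro h
    have := h.trans hcard
    rcases hpp.dvd_mul.mp this with h1 | h1
    · rw [Nat.card_zpowers] at h1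
      have : p ∣ Nat.gcd (orderOf y) p := Nat.dvd_gcd h1 dvd_rfl
      rw [hyp] at this
      exact hpp.one_lt.ne' (Nat.dvd_one.mp this)
    · exact hV h1
  have hc := hab _ hnd
  intro v hv
  have h1 : y ∈ (zpowers y ⊔ V : Subgroup G) := le_sup_left (a := zpowers y) (mem_zpowers y)
  have h2 : v ∈ (zpowers y ⊔ V : Subgroup G) := le_sup_right (a := zpowers y) hv
  have := hc.is_comm.comm ⟨y, h1⟩ ⟨v, h2⟩
  exact congrArg Subtype.val this

/-- `p`-elements of `N(P)` lie in `P`. -/
theorem mem_of_pelem (P : Sylow p G) (u : G) (hu : u ∈ normalizer ((P : Subgroup G) : Set G))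
    (k : ℕ) (huk : u ^ p ^ k = 1) : u ∈ P := by
  have hle : zpowers u ≤ normalizer ((P : Subgroup G) : Set G) := by
    rw [zpowers_le]; exact hu
  have hz : IsPGroup p (zpowers u) := by
    rw [IsPGroup.iff_card]
    obtain ⟨m, _, hm⟩ := (Nat.dvd_prime_pow (Fact.out : p.Prime)).1 (orderOf_dvd_of_pow_eq_one huk)
    exact ⟨m, by rw [Nat.card_zpowers, hm]⟩
  have hs : IsPGroup p (zpowers u ⊔ (P : Subgroup G) : Subgroup G) :=
    IsPGroup.to_sup_of_normal_right' hz P.isPGroup' hle
  have heq : (zpowers u ⊔ (P : Subgroup G) : Subgroup G) = P := P.is_maximal' hs le_sup_right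
  rw [← SetLike.mem_coe, ← Sylow.coe_coe, SetLike.mem_coe, ← heq]
  exact le_sup_left (a := zpowers u) (mem_zpowers u)

end Cfsg.Agent.Lib.Helper42.CYA
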