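import Cfsg.Agent.Lib.Helper42.CYA.Defs
import Cfsg.Agent.Lib.Helper42.CYA.BURN
import Cfsg.Agent.Lib.Helper42.CYA.BAS

/-! Ladder CYA (S4016), rung KEY. -/

namespace Cfsg.Agent.Lib.Helper42.CYA

open Subgroup

variable {G : Type*} [Group G] [Finite G] {p : ℕ} [Fact p.Prime]

/-- KEY: a proper subgroup containing `N(P)` equals `N(P)`. -/
theorem MC.le_of_ge (h : MC p G) (P : Sylow p G) (H : Subgroup G) (hH : H ≠ ⊤)
    (hM : normalizer ((P : Subgroup G) : Set G) ≤ H) :
    H ≤ normalizer ((P : Subgroup G) : Set G) := by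
  have hs := h.simple
  have hPH : (P : Subgroup G) ≤ H := le_normalizer.trans hM
  set Q : Sylow p H := P.subtype hPH with hQ
  have hQmem : ∀ x : H, x ∈ (Q : Subgroup H) ↔ (x : G) ∈ (P : Subgroup G) := fun x => Iff.rfl
  rcases h.sub H hH with h1 | h1
  · exfalso
    have hcyc : IsCyclic P := h.hyp.1 P
    have hPc : ∀ a ∈ (P : Subgroup G), ∀ b ∈ (P : Subgroup G), a * b = b * a := by
      intro a ha b hb
      letI := IsCyclic.commGroup (α := P)
      exact congrArg Subtype.val (mul_comm (⟨a, ha⟩ : P) ⟨b, hb⟩)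
    have hab : IsMulCommutative Q := by
      refine ⟨⟨fun a b => ?_⟩⟩
      apply Subtype.ext
      apply Subtype.ext
      exact hPc _ ((hQmem _).mp a.2) _ ((hQmem _).mp b.2)
    have h2 := npc_normalizer_le h1 Q hab
    apply burnside_simple h.nonab P (h.ne_bot P)
    intro x hx
    have hxn : (⟨x, hM hx⟩ : H) ∈ normalizer ((Q : Subgroup H) : Set H) := by
      rw [mem_normalizer_iff]
      intro a
      rw [hQmem, hQmem]
      exact mem_normalizer_iff.mp hx a
    have h3 := h2 hxn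
    rw [mem_centralizer_iff] at h3 ⊢
    intro a ha
    exact congrArg Subtype.val (h3 ⟨a, hPH ha⟩ ((hQmem _).mpr ha))
  · have hn := h1 Q
    intro x hx
    rw [mem_normalizer_iff]
    intro a
    constructor
    · intro ha
      have := hn.conj_mem ⟨a, hPH ha⟩ ((hQmem _).mpr ha) ⟨x, hx⟩
      exact (hQmem _).mp this
    · intro ha
      have := hn.conj_mem ⟨x * a * x⁻¹, hPH ha⟩ ((hQmem _).mpr ha) ⟨x, hx⟩⁻¹
      have h2 := (hQmem _).mp this
      have e : ((⟨x, hx⟩⁻¹ * ⟨x * a * x⁻¹, hPH ha⟩ * (⟨x, hx⟩ : H)⁻¹⁻¹ : H) : G) = a := by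
        simp [mul_assoc]
      rwa [e] at h2

end Cfsg.Agent.Lib.Helper42.CYA
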