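import Cfsg.Agent.Lib.Helper42.CYA.Defs

/-! Ladder CYA (S4016), rung VSUB. -/

namespace Cfsg.Agent.Lib.Helper42.CYA

open Subgroup

variable {G : Type*} [Group G] [Finite G] {p : ℕ} [Fact p.Prime]

/-- VSUB: the `p'`-elements of the centralizer of an abelian Sylow `p`-subgroup form a subgroup. -/
theorem exists_V (P : Sylow p G) (hab : IsMulCommutative P) :
    ∃ V : Subgroup G, ∀ x, x ∈ V ↔ ((orderOf x).Coprime p ∧ ∀ z ∈ P, Commute x z) := by
  have hpp : p.Prime := Fact.out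
  set C : Subgroup G := centralizer ((P : Subgroup G) : Set G) with hC
  have hPC : (P : Subgroup G) ≤ C := by
    intro a ha
    rw [hC, mem_centralizer_iff]
    intro b hb
    exact congrArg Subtype.val (hab.is_comm.comm ⟨b, hb⟩ ⟨a, ha⟩)
  set Q : Sylow p C := P.subtype hPC with hQ
  have hQmem : ∀ x : C, x ∈ (Q : Subgroup C) ↔ (x : G) ∈ (P : Subgroup G) := fun x => Iff.rfl
  have hQn : normalizer ((Q : Subgroup C) : Set C) ≤ centralizer ((Q : Subgroup C) : Set C) := by
    intro c _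
    rw [mem_centralizer_iff]
    intro a ha
    apply Subtype.ext
    exact (mem_centralizer_iff.mp c.2) a ((hQmem a).mp ha)
  set K := (MonoidHom.transferSylow Q hQn).ker with hK
  have hKp : ¬ p ∣ Nat.card K := MonoidHom.not_dvd_card_ker_transferSylow Q hQn
  refine ⟨K.map C.subtype, fun x => ⟨?_, ?_⟩⟩
  · rintro ⟨k, hk, rfl⟩
    refine ⟨?_, ?_⟩
    · have h1 : orderOf ((C.subtype k : G)) ∣ Nat.card K := by
        rw [Subgroup.coe_subtype, Subgroup.orderOf_coe]
        exact Subgroup.orderOf_dvd_natCard K hk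
      exact Nat.Coprime.coprime_dvd_left h1 ((Nat.Prime.coprime_iff_not_dvd hpp).mpr hKp).symm
    · intro z hz
      exact ((mem_centralizer_iff.mp k.2) z hz).symm
  · rintro ⟨hx, hxz⟩
    have hxC : x ∈ C := by
      rw [hC, mem_centralizer_iff]
      intro z hz
      exact (hxz z hz).eq.symm
    refine ⟨⟨x, hxC⟩, ?_, rfl⟩
    show (⟨x, hxC⟩ : C) ∈ K
    rw [hK, MonoidHom.mem_ker]
    set t := MonoidHom.transferSylow Q hQn ⟨x, hxC⟩ with ht
    have h1 : orderOf t ∣ orderOf x := by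
      have := orderOf_map_dvd (MonoidHom.transferSylow Q hQn) (⟨x, hxC⟩ : C)
      rwa [← Subgroup.orderOf_coe (⟨x, hxC⟩ : C)] at this
    obtain ⟨k, hk⟩ := (Q.isPGroup' t)
    obtain ⟨m, _, hm⟩ := (Nat.dvd_prime_pow hpp).1 (orderOf_dvd_of_pow_eq_one hk)
    have h2 : (orderOf t).Coprime p := Nat.Coprime.coprime_dvd_left h1 hx
    rw [hm] at h2
    cases m with
    | zero => exact orderOf_eq_one_iff.mp (by rw [hm, pow_zero])
    | succ m =>
      exfalso
      have h3 : p ∣ Nat.gcd (p ^ (m + 1)) p := Nat.dvd_gcd (dvd_pow_self p (Nat.succ_ne_zero m)) dvd_rfl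
      rw [h2] at h3
      exact hpp.one_lt.ne' (Nat.dvd_one.mp h3)

end Cfsg.Agent.Lib.Helper42.CYA
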