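import Cfsg.Agent.Lib.Helper42.CYA.Defs
import Cfsg.Agent.Lib.Helper42.CYA.COMM
import Cfsg.Agent.Lib.Helper42.CYA.VSUB
import Cfsg.Agent.Lib.Helper42.CYA.BAS
import Cfsg.Agent.Lib.Helper42.CYA.KEY
import Cfsg.Agent.Lib.Helper71.NilMax

/-! Ladder CYA (S4016), rung CEN. -/

namespace Cfsg.Agent.Lib.Helper42.CYA

open Subgroup

variable {G : Type*} [Group G] [Finite G] {p : ℕ} [Fact p.Prime]

/-- CEN -/
theorem MC.cen (h : MC p G) (P : Sylow p G) (e : G) (he : e ≠ 1) (hep : (orderOf e).Coprime p)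
    (hc : ∀ x ∈ P, Commute e x) :
    centralizer ({e} : Set G) = normalizer ((P : Subgroup G) : Set G) := by
  have hpp : p.Prime := Fact.out
  have hs := h.simple
  have hcyc : IsCyclic P := h.hyp.1 P
  have hab : IsMulCommutative P := by
    letI := IsCyclic.commGroup (α := P)
    exact ⟨⟨fun a b => mul_comm a b⟩⟩
  obtain ⟨V, hV⟩ := exists_V P hab
  have heV : e ∈ V := (hV e).mpr ⟨hep, hc⟩
  have hVp : ¬ p ∣ Nat.card V := by
    intro hd
    obtain ⟨x, hx⟩ := exists_prime_orderOf_dvd_card' p hd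
    have h1 := ((hV x).mp x.2).1
    rw [Subgroup.orderOf_coe, hx, Nat.coprime_self] at h1
    exact hpp.one_lt.ne' h1
  have hMV : normalizer ((P : Subgroup G) : Set G) ≤ normalizer (V : Set G) := by
    intro m hm
    apply Cfsg.Agent.Lib.Helper11.mem_normalizer_of_conj_mem
    intro v hv
    obtain ⟨hv1, hv2⟩ := (hV v).mp hv
    rw [hV]
    refine ⟨?_, ?_⟩
    · have : orderOf (m * v * m⁻¹) = orderOf v := by
        simpa using orderOf_injective (MulAut.conj m).toMonoidHom (MulAut.conj m).injective v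
      rw [this]; exact hv1
    · intro z hz
      have hz' : m⁻¹ * z * m ∈ (P : Subgroup G) := (mem_normalizer_iff''.mp hm z).mp hz
      have h2 := (hv2 _ hz').eq
      show m * v * m⁻¹ * z = z * (m * v * m⁻¹)
      calc m * v * m⁻¹ * z = m * (v * (m⁻¹ * z * m)) * m⁻¹ := by group
        _ = m * ((m⁻¹ * z * m) * v) * m⁻¹ := by rw [h2]
        _ = z * (m * v * m⁻¹) := by group
  have hMC : normalizer ((P : Subgroup G) : Set G) ≤ centralizer ({e} : Set G) := by
    intro m hm
    obtain ⟨u, c, hu, hcz, hm', ⟨k, hk⟩, hcc⟩ := Cfsg.Agent.Lib.Helper71.exists_p_decomp p m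
    have hzm : zpowers m ≤ normalizer ((P : Subgroup G) : Set G) := by
      rw [zpowers_le]; exact hm
    have huP : u ∈ P := mem_of_pelem P u (hzm hu) k hk
    have h1 : Commute e u := hc u huP
    have h2 : Commute c e := comm_of_normalizes h.hyp.2 V hVp c (hMV (hzm hcz)) hcc e heV
    rw [mem_centralizer_singleton_iff, hm']
    exact (h1.symm.mul_left h2).eq
  refine le_antisymm (h.le_of_ge P _ ?_ hMC) hMC
  intro htop
  have hec : e ∈ center G := by
    rw [mem_center_iff]
    intro g
    have : g ∈ centralizer ({e} : Set G) := by rw [htop]; trivial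
    exact (mem_centralizer_singleton_iff.mp this)
  rcases (inferInstance : (center G).Normal).eq_bot_or_eq_top with h1 | h1
  · rw [h1, mem_bot] at hec
    exact he hec
  · obtain ⟨a, b, hab'⟩ := h.nonab
    apply hab'
    have : a ∈ center G := by rw [h1]; trivial
    exact ((mem_center_iff.mp this) b).symm

end Cfsg.Agent.Lib.Helper42.CYA
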