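import Cfsg.Agent.Lib.Helper42.CYA.Defs

/-! Ladder CYA (S4016), rung DICH. -/

namespace Cfsg.Agent.Lib.Helper42.CYA

open Subgroup

variable {G : Type*} [Group G] [Finite G] {p : ℕ} [Fact p.Prime]

/-- DICH: a `p'`-element normalizing a cyclic `p`-group and centralizing a nontrivial element of it
centralizes it. -/
theorem dich (P : Subgroup G) (hP : IsPGroup p P) (hc : IsCyclic P) (y : G)
    (hy : y ∈ normalizer (P : Set G)) (hyp : (orderOf y).Coprime p)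
    (x : G) (hx : x ∈ P) (hx1 : x ≠ 1) (hxy : Commute y x) : ∀ z ∈ P, Commute y z := by
  have hpp : p.Prime := Fact.out
  obtain ⟨⟨z0, hz0P⟩, hgen⟩ := hc.exists_generator
  have hgen' : ∀ z ∈ P, ∃ i : ℕ, z = z0 ^ i := by
    intro z hz
    have h1 := hgen ⟨z, hz⟩
    obtain ⟨i, hi⟩ := (mem_powers_iff_mem_zpowers.mpr h1)
    exact ⟨i, by simpa using (congrArg Subtype.val hi).symm⟩
  obtain ⟨m, hm⟩ : ∃ m, orderOf z0 = p ^ m := by
    obtain ⟨m, hm⟩ := hP ⟨z0, hz0P⟩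
    have h1 : z0 ^ p ^ m = 1 := by simpa using congrArg Subtype.val hm
    obtain ⟨m', _, h'⟩ := (Nat.dvd_prime_pow hpp).1 (orderOf_dvd_of_pow_eq_one h1)
    exact ⟨m', h'⟩
  have hyz : y * z0 * y⁻¹ ∈ P := (mem_normalizer_iff.mp hy z0).mp hz0P
  obtain ⟨k, hk⟩ := hgen' _ hyz
  -- iterate
  have hit : ∀ n : ℕ, y ^ n * z0 * (y ^ n)⁻¹ = z0 ^ (k ^ n) := by
    intro n
    induction n with
    | zero => simp
    | succ n ih =>
      have : y ^ (n + 1) * z0 * (y ^ (n + 1))⁻¹ = y * (y ^ n * z0 * (y ^ n)⁻¹) * y⁻¹ := by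
        rw [pow_succ']; group
      rw [this, ih, ← conj_pow, hk, ← pow_mul, pow_succ']
  obtain ⟨i, hi⟩ := hgen' x hx
  -- p ∣ k - 1
  have h2 : z0 ^ (k * i) = z0 ^ i := by
    have h3 : y * x * y⁻¹ = x := by rw [hxy.eq]; group
    rw [hi, ← conj_pow, hk, ← pow_mul] at h3
    exact h3
  have h4 : k * i ≡ i [MOD p ^ m] := by
    rw [← hm]; exact pow_eq_pow_iff_modEq.mp h2
  have h5 : ((p ^ m : ℕ) : ℤ) ∣ (i : ℤ) * ((k : ℤ) - 1) := by
    have := (Nat.modEq_iff_dvd.mp h4.symm)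
    have e : ((k * i : ℕ) : ℤ) - (i : ℤ) = (i : ℤ) * ((k : ℤ) - 1) := by push_cast; ring
    rwa [e] at this
  have h6 : (p : ℤ) ∣ (k : ℤ) - 1 := by
    by_contra hnd
    have hcop : IsCoprime ((p ^ m : ℕ) : ℤ) ((k : ℤ) - 1) := by
      push_cast
      exact IsCoprime.pow_left (((Nat.prime_iff_prime_int.mp hpp).coprime_iff_not_dvd).mpr hnd)
    have h7 : ((p ^ m : ℕ) : ℤ) ∣ (i : ℤ) := hcop.dvd_of_dvd_mul_right h5
    have h8 : p ^ m ∣ i := Int.natCast_dvd_natCast.mp h7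
    apply hx1
    rw [hi]
    exact orderOf_dvd_iff_pow_eq_one.mp (hm ▸ h8)
  -- y ^ (p ^ m) commutes with z0
  have h9 : ((p : ℤ) ^ (m + 1)) ∣ (k : ℤ) ^ p ^ m - 1 ^ p ^ m := dvd_sub_pow_of_dvd_sub h6 m
  have h10 : k ^ p ^ m ≡ 1 [MOD p ^ m] := by
    apply Nat.ModEq.symm
    rw [Nat.modEq_iff_dvd]
    push_cast
    rw [one_pow] at h9
    exact dvd_trans (pow_dvd_pow _ (Nat.le_succ m)) h9
  have h11 : y ^ (p ^ m) * z0 * (y ^ (p ^ m))⁻¹ = z0 := by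
    rw [hit]
    have : z0 ^ (k ^ p ^ m) = z0 ^ 1 := by
      rw [pow_eq_pow_iff_modEq, hm]; exact h10
    rw [this, pow_one]
  have h12 : Commute (y ^ (p ^ m)) z0 := by
    have : y ^ (p ^ m) * z0 = z0 * y ^ (p ^ m) := by
      calc y ^ (p ^ m) * z0 = (y ^ (p ^ m) * z0 * (y ^ (p ^ m))⁻¹) * y ^ (p ^ m) := by group
        _ = z0 * y ^ (p ^ m) := by rw [h11]
    exact this
  have h13 : y ∈ Submonoid.powers (y ^ (p ^ m)) := by
    have hcop : (orderOf y).Coprime (p ^ m) := Nat.Coprime.pow_right m hyp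
    obtain ⟨t, ht⟩ := exists_pow_eq_self_of_coprime hcop.symm
    exact ⟨t, ht⟩
  obtain ⟨t, ht⟩ := h13
  have h14 : Commute y z0 := by
    rw [← ht]; exact h12.pow_left t
  intro z hz
  obtain ⟨j, rfl⟩ := hgen' z hz
  exact h14.pow_right j

end Cfsg.Agent.Lib.Helper42.CYA
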