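import Mathlib
import Cfsg.Prelude.Def_Transfer

/-! Ladder CYA (S4016): cyclic Sylow `p`-subgroup + all `p'`-subgroups abelian
implies normal `p`-complement or normal Sylow.  Definitions. -/

namespace Cfsg.Agent.Lib.Helper42.CYA

/-- the hypothesis of S4016 -/
def Hyp (p : ℕ) (G : Type*) [Group G] : Prop :=
  (∀ P : Sylow p G, IsCyclic P) ∧
    ∀ H : Subgroup G, ¬ p ∣ Nat.card H → IsMulCommutative H

/-- the conclusion of S4016 -/
def Concl (p : ℕ) (G : Type*) [Group G] : Prop :=
  Cfsg.HasNormalPComplement p G ∨ ∀ P : Sylow p G, (P : Subgroup G).Normal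

/-- a minimal counterexample (after the reduction to simple groups) -/
structure MC (p : ℕ) (G : Type*) [Group G] : Prop where
  hyp : Hyp p G
  simple : IsSimpleGroup G
  sub : ∀ H : Subgroup G, H ≠ ⊤ → Concl p H
  nc : ¬ Concl p G

/-- the facts about a minimal counterexample used in the two final cases -/
structure Ctx (p : ℕ) (G : Type*) [Group G] : Prop where
  simple : IsSimpleGroup G
  nonab : ∃ a b : G, a * b ≠ b * a
  cyc : ∀ P : Sylow p G, IsCyclic P
  ab : ∀ H : Subgroup G, ¬ p ∣ Nat.card H → IsMulCommutative H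
  ne_bot : ∀ P : Sylow p G, (P : Subgroup G) ≠ ⊥
  p_ne_two : p ≠ 2
  norm_le : ∀ (P : Sylow p G) (X : Subgroup G), X ≤ P → X ≠ ⊥ →
    Subgroup.normalizer (X : Set G) ≤ Subgroup.normalizer ((P : Subgroup G) : Set G)
  cen : ∀ (P : Sylow p G) (e : G), e ≠ 1 → (orderOf e).Coprime p →
    (∀ x ∈ P, Commute e x) →
    Subgroup.centralizer ({e} : Set G) = Subgroup.normalizer ((P : Subgroup G) : Set G)

/-- case E1: no nontrivial `p'`-element centralizes a Sylow `p`-subgroup; consequences -/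
structure CA (p : ℕ) (G : Type*) [Group G] : Prop extends Ctx p G where
  cent_p : ∀ (P : Sylow p G) (x : G), x ∈ P → x ≠ 1 →
    Subgroup.centralizer ({x} : Set G) = (P : Subgroup G)
  cent_pp : ∀ g : G, g ≠ 1 → (orderOf g).Coprime p →
    ¬ p ∣ Nat.card (Subgroup.centralizer ({g} : Set G))
  dichot : ∀ g : G, (∃ k : ℕ, g ^ p ^ k = 1) ∨ (orderOf g).Coprime p

end Cfsg.Agent.Lib.Helper42.CYA
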