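import Cfsg.Agent.Lib.Helper42.CYA.Defs
import Cfsg.Agent.Lib.Helper42.CYA.DICH
import Cfsg.Agent.Lib.Helper42.CYA.COMM
import Cfsg.Agent.Lib.Helper71.NilMax
import Cfsg.Agent.Lib.Helper11.NPC

/-! Ladder CYA (S4016), rung E1A. -/

namespace Cfsg.Agent.Lib.Helper42.CYA

open Subgroup

variable {G : Type*} [Group G] [Finite G] {p : ℕ} [Fact p.Prime]

/-- a `p`-element lies in a Sylow `p`-subgroup -/
theorem exists_sylow_of_pelem (u : G) (k : ℕ) (hk : u ^ p ^ k = 1) : ∃ S : Sylow p G, u ∈ S := by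
  have hz : IsPGroup p (zpowers u) := by
    rw [IsPGroup.iff_card]
    obtain ⟨m, _, hm⟩ := (Nat.dvd_prime_pow (Fact.out : p.Prime)).1 (orderOf_dvd_of_pow_eq_one hk)
    exact ⟨m, by rw [Nat.card_zpowers, hm]⟩
  obtain ⟨S, hS⟩ := hz.exists_le_sylow
  exact ⟨S, hS (mem_zpowers u)⟩

/-- an element which is both a `p`-element and a `p'`-element is trivial -/
theorem eq_one_of_pelem_of_coprime (g : G) (k : ℕ) (hk : g ^ p ^ k = 1)
    (hg : (orderOf g).Coprime p) : g = 1 := by
  have h1 : orderOf g ∣ p ^ k := orderOf_dvd_of_pow_eq_one hk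
  have h2 : (orderOf g).Coprime (p ^ k) := Nat.Coprime.pow_right k hg
  exact orderOf_eq_one_iff.mp (Nat.Coprime.eq_one_of_dvd h2 h1)

theorem sylow_pelem (S : Sylow p G) (g : G) (hg : g ∈ S) : ∃ k : ℕ, g ^ p ^ k = 1 := by
  obtain ⟨k, hk⟩ := S.isPGroup' ⟨g, hg⟩
  exact ⟨k, by simpa using congrArg Subtype.val hk⟩

/-- E1A -/
theorem ca_of_E1 (h : Ctx p G)
    (hE : ∀ (P : Sylow p G) (e : G), (orderOf e).Coprime p → (∀ x ∈ P, Commute e x) → e = 1) :
    CA p G := by
  have hpp : p.Prime := Fact.out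
  have hcp : ∀ (P : Sylow p G) (x : G), x ∈ P → x ≠ 1 →
      centralizer ({x} : Set G) = (P : Subgroup G) := by
    intro P x hx hx1
    have hcyc : IsCyclic P := h.cyc P
    apply le_antisymm
    · intro m hm
      have hmx : Commute m x := (mem_centralizer_singleton_iff.mp hm)
      have hzx : zpowers x ≤ (P : Subgroup G) := by rw [zpowers_le]; exact hx
      have hzx1 : zpowers x ≠ ⊥ := by rw [Ne, zpowers_eq_bot]; exact hx1
      have hle : centralizer ({x} : Set G) ≤ normalizer ((P : Subgroup G) : Set G) := by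
        refine le_trans ?_ (h.norm_le P (zpowers x) hzx hzx1)
        intro y hy
        apply Cfsg.Agent.Lib.Helper11.mem_normalizer_of_conj_mem
        intro d hd
        obtain ⟨n, rfl⟩ := mem_zpowers_iff.mp hd
        have hyx : Commute y x := (mem_centralizer_singleton_iff.mp hy)
        have : y * x ^ n * y⁻¹ = x ^ n := by
          rw [(hyx.zpow_right n).eq]; group
        rw [this]
        exact zpow_mem (mem_zpowers x) n
      obtain ⟨u, c, hu, hcz, hm', ⟨k, hk⟩, hcc⟩ := Cfsg.Agent.Lib.Helper71.exists_p_decomp p m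
      have hzm : zpowers m ≤ centralizer ({x} : Set G) := by rw [zpowers_le]; exact hm
      have huP : u ∈ P := mem_of_pelem P u (hle (hzm hu)) k hk
      have hcx : Commute c x := (mem_centralizer_singleton_iff.mp (hzm hcz))
      have hcP := dich (P : Subgroup G) P.isPGroup' hcyc c (hle (hzm hcz)) hcc x hx hx1 hcx
      have hc1 : c = 1 := hE P c hcc hcP
      rw [hm', hc1, mul_one]
      exact huP
    · intro a ha
      rw [mem_centralizer_singleton_iff]
      letI := IsCyclic.commGroup (α := P)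
      exact congrArg Subtype.val (mul_comm (⟨a, ha⟩ : P) ⟨x, hx⟩)
  refine { h with cent_p := hcp, cent_pp := ?_, dichot := ?_ }
  · intro g hg hgp hd
    obtain ⟨x, hx⟩ := exists_prime_orderOf_dvd_card' p hd
    have hx' : orderOf (x : G) = p := by rw [Subgroup.orderOf_coe]; exact hx
    have hx1 : (x : G) ≠ 1 := by
      intro h1
      rw [h1, orderOf_one] at hx'
      exact hpp.one_lt.ne hx'
    obtain ⟨S, hS⟩ := exists_sylow_of_pelem (p := p) (x : G) 1 (by rw [pow_one, ← hx', pow_orderOf_eq_one])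
    have hgS : g ∈ (S : Subgroup G) := by
      rw [← hcp S x hS hx1, mem_centralizer_singleton_iff]
      exact (mem_centralizer_singleton_iff.mp x.2).symm
    obtain ⟨k, hk⟩ := sylow_pelem S g hgS
    exact hg (eq_one_of_pelem_of_coprime g k hk hgp)
  · intro g
    obtain ⟨u, c, hu, hcz, hm', ⟨k, hk⟩, hcc⟩ := Cfsg.Agent.Lib.Helper71.exists_p_decomp p g
    by_cases hu1 : u = 1
    · right
      rw [hm', hu1, one_mul]; exact hcc
    · left
      obtain ⟨S, hS⟩ := exists_sylow_of_pelem (p := p) u k hk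
      have hgS : g ∈ (S : Subgroup G) := by
        rw [← hcp S u hS hu1, mem_centralizer_singleton_iff]
        obtain ⟨n, rfl⟩ := mem_zpowers_iff.mp hu
        exact ((Commute.refl g).zpow_right n).eq
      exact sylow_pelem S g hgS

end Cfsg.Agent.Lib.Helper42.CYA
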