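import Cfsg.Agent.Lib.Helper42.CYA.Defs
import Cfsg.Agent.Lib.Helper42.CYA.E1A
import Cfsg.Agent.S0183

/-! Ladder CYA (S4016), rung E1B. -/

namespace Cfsg.Agent.Lib.Helper42.CYA

open Subgroup

variable {G : Type*} [Group G] [Finite G] {p : ℕ} [Fact p.Prime]

/-- E1B: the order is even (S0183 = CN-groups of odd order are solvable) -/
theorem CA.even (h : CA p G) : Even (Nat.card G) := by
  by_contra hne
  have hodd : Odd (Nat.card G) := Nat.not_even_iff_odd.mp hne
  have hs := h.simple
  have hCN : Cfsg.IsCNGroup G := by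
    intro g hg
    rcases h.dichot g with ⟨k, hk⟩ | hgp
    · obtain ⟨S, hS⟩ := exists_sylow_of_pelem (p := p) g k hk
      rw [h.cent_p S g hS hg]
      exact S.isPGroup'.isNilpotent
    · have hc := h.ab _ (h.cent_pp g hg hgp)
      letI : CommGroup (centralizer ({g} : Set G)) :=
        { (inferInstance : Group (centralizer ({g} : Set G))) with mul_comm := hc.is_comm.comm }
      infer_instance
  have hsol := Cfsg.Agent.S0183.result hodd hCN
  obtain ⟨a, b, hab⟩ := h.nonab
  exact hab (IsSimpleGroup.comm_iff_isSolvable.mpr hsol a b)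

end Cfsg.Agent.Lib.Helper42.CYA
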