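import Cfsg.Agent.Lib.Helper42.CYA.Defs
import Cfsg.Agent.Lib.Helper42.CYA.COMM
import Cfsg.Agent.Lib.Helper42.CYA.E1A

/-! Ladder CYA (S4016), rung E1C. -/

namespace Cfsg.Agent.Lib.Helper42.CYA

open Subgroup

variable {G : Type*} [Group G] [Finite G] {p : ℕ} [Fact p.Prime]

theorem invol_mul_self {s : G} (hs : orderOf s = 2) : s * s = 1 := by
  rw [← pow_two, ← hs, pow_orderOf_eq_one]

theorem invol_inv {s : G} (hs : orderOf s = 2) : s⁻¹ = s :=
  inv_eq_of_mul_eq_one_left (invol_mul_self hs)

theorem invol_ne_one {s : G} (hs : orderOf s = 2) : s ≠ 1 := by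
  rintro rfl
  simp at hs

theorem Ctx.two_coprime (h : Ctx p G) : Nat.Coprime 2 p :=
  (Nat.coprime_primes Nat.prime_two Fact.out).mpr (Ne.symm h.p_ne_two)

/-- an involution is not a `p`-element -/
theorem Ctx.invol_not_mem (h : Ctx p G) (s : G) (hs : orderOf s = 2) (S : Sylow p G) : s ∉ S := by
  intro hsS
  obtain ⟨k, hk⟩ := sylow_pelem S s hsS
  exact invol_ne_one hs (eq_one_of_pelem_of_coprime s k hk (hs ▸ h.two_coprime))

theorem Ctx.sylow_comm (h : Ctx p G) (S : Sylow p G) {a b : G} (ha : a ∈ S) (hb : b ∈ S) :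
    a * b = b * a := by
  have hcyc : IsCyclic S := h.cyc S
  letI := IsCyclic.commGroup (α := S)
  exact congrArg Subtype.val (mul_comm (⟨a, ha⟩ : S) ⟨b, hb⟩)

/-- E1C: an involution normalizing a Sylow `p`-subgroup inverts it -/
theorem CA.inverts (h : CA p G) (s : G) (hs : orderOf s = 2) (S : Sylow p G)
    (hsS : s ∈ normalizer ((S : Subgroup G) : Set G)) : ∀ w ∈ S, s * w * s⁻¹ = w⁻¹ := by
  intro w hw
  have hw' : s * w * s⁻¹ ∈ S := (mem_normalizer_iff.mp hsS w).mp hw
  have hss := invol_mul_self hs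
  have hsi := invol_inv hs
  set v := w * (s * w * s⁻¹) with hv
  have hvS : v ∈ S := mul_mem hw hw'
  have hsv : s * v = v * s := by
    have h1 : s * v * s⁻¹ = (s * w * s⁻¹) * w := by
      rw [hv, hsi]
      calc s * (w * (s * w * s)) * s = s * w * s * w * (s * s) := by group
        _ = s * w * s * w := by rw [hss, mul_one]
    rw [h.sylow_comm S hw' hw] at h1
    calc s * v = (s * v * s⁻¹) * s := by group
      _ = v * s := by rw [h1]
  by_cases hv1 : v = 1
  · exact (eq_inv_of_mul_eq_one_right hv1)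
  · exfalso
    apply h.invol_not_mem s hs S
    have : s ∈ (S : Subgroup G) := by
      rw [← h.cent_p S v hvS hv1, mem_centralizer_singleton_iff]
      exact hsv
    exact this

/-- E1C: the product of two non-commuting involutions is a `p`-element -/
theorem CA.prod_mem (h : CA p G) (s t : G) (hs : orderOf s = 2) (ht : orderOf t = 2)
    (hst : ¬ Commute s t) :
    ∃ S : Sylow p G, s * t ∈ S ∧ s ∈ normalizer ((S : Subgroup G) : Set G) := by
  have hpp : p.Prime := Fact.out
  have hss := invol_mul_self hs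
  have hsi := invol_inv hs
  have hti := invol_inv ht
  set w := s * t with hw
  have hsw : s * w * s⁻¹ = w⁻¹ := by
    rw [hw, mul_inv_rev, hsi, hti, ← mul_assoc, hss, one_mul]
  have hw1 : w ≠ 1 := by
    intro h1
    apply hst
    have : t = s := by
      have := eq_inv_of_mul_eq_one_right h1
      rw [this, hsi]
    rw [this]
  rcases h.dichot w with ⟨k, hk⟩ | hwp
  · obtain ⟨S, hS⟩ := exists_sylow_of_pelem (p := p) w k hk
    refine ⟨S, hS, ?_⟩
    apply Cfsg.Agent.Lib.Helper11.mem_normalizer_of_conj_mem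
    intro a ha
    have haw : a * w = w * a := h.sylow_comm S ha hS
    rw [← h.cent_p S w hS hw1, mem_centralizer_singleton_iff]
    have h1 : (s * a * s⁻¹) * w⁻¹ = w⁻¹ * (s * a * s⁻¹) := by
      rw [← hsw]
      calc s * a * s⁻¹ * (s * w * s⁻¹) = s * (a * w) * s⁻¹ := by group
        _ = s * (w * a) * s⁻¹ := by rw [haw]
        _ = s * w * s⁻¹ * (s * a * s⁻¹) := by group
    have h2 : Commute (s * a * s⁻¹) w⁻¹ := h1
    have h3 := h2.inv_right
    rw [inv_inv] at h3
    exact h3.eq
  · exfalso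
    apply hst
    have hV : ¬ p ∣ Nat.card (zpowers w) := by
      rw [Nat.card_zpowers]
      intro hd
      have : p ∣ Nat.gcd (orderOf w) p := Nat.dvd_gcd hd dvd_rfl
      rw [hwp] at this
      exact hpp.one_lt.ne' (Nat.dvd_one.mp this)
    have hsN : s ∈ normalizer ((zpowers w : Subgroup G) : Set G) := by
      apply Cfsg.Agent.Lib.Helper11.mem_normalizer_of_conj_mem
      intro d hd
      obtain ⟨n, rfl⟩ := mem_zpowers_iff.mp hd
      have : s * w ^ n * s⁻¹ = (w⁻¹) ^ n := by
        rw [← hsw, conj_zpow]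
      rw [this]
      exact zpow_mem (inv_mem (mem_zpowers w)) n
    have h1 := comm_of_normalizes h.ab (zpowers w) hV s hsN (hs ▸ h.two_coprime) w (mem_zpowers w)
    have h2 : s * (s * t) = (s * t) * s := h1.eq
    have h3 : s * t = t * s := by
      have := congrArg (fun x => s⁻¹ * x) h2
      simpa [mul_assoc] using this
    exact h3

end Cfsg.Agent.Lib.Helper42.CYA
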