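import Cfsg.Agent.Lib.Helper42.CYA.Defs
import Cfsg.Agent.Lib.Helper42.CYA.E1C

/-! Ladder CYA (S4016), rung E1E. -/

namespace Cfsg.Agent.Lib.Helper42.CYA

open Subgroup

variable {G : Type*} [Group G] [Finite G] {p : ℕ} [Fact p.Prime]

theorem card_ne_one (H : Subgroup G) :
    Nat.card {w : G // w ∈ H ∧ w ≠ 1} = Nat.card H - 1 := by
  classical
  have e : {w : G // w ∈ H ∧ w ≠ 1} ≃ {x : H // x ≠ 1} :=
    { toFun := fun w => ⟨⟨w.1, w.2.1⟩, fun h => w.2.2 (congrArg Subtype.val h)⟩
      invFun := fun x => ⟨x.1.1, x.1.2, fun h => x.2 (Subtype.ext h)⟩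
      left_inv := fun w => rfl
      right_inv := fun x => rfl }
  rw [Nat.card_congr e]
  haveI := Fintype.ofFinite H
  rw [Nat.card_eq_fintype_card, Nat.card_eq_fintype_card, Fintype.card_subtype,
    Finset.filter_ne' Finset.univ (1 : H), Finset.card_erase_of_mem (Finset.mem_univ _),
    Finset.card_univ]

/-- E1E: counting the involutions not commuting with `s` -/
theorem CA.count (h : CA p G) (s : G) (hs : orderOf s = 2) (P : Sylow p G) :
    Nat.card {t : G // orderOf t = 2 ∧ ¬ Commute s t} =
      Nat.card {S : Sylow p G // s ∈ normalizer ((S : Subgroup G) : Set G)} *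
        (Nat.card P - 1) := by
  classical
  have hss := invol_mul_self hs
  have hprop : ∀ (S : Sylow p G), s ∈ normalizer ((S : Subgroup G) : Set G) → ∀ w : G,
      w ∈ (S : Subgroup G) ∧ w ≠ 1 → orderOf (s * w) = 2 ∧ ¬ Commute s (s * w) := by
    intro S hS w hw
    have hnc : ¬ Commute s w := by
      intro hc
      apply h.invol_not_mem s hs S
      have : s ∈ (S : Subgroup G) := by
        rw [← h.cent_p S w hw.1 hw.2, mem_centralizer_singleton_iff]
        exact hc.eq
      exact this
    refine ⟨?_, ?_⟩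
    · have hinv := h.inverts s hs S hS w hw.1
      have h1 : s * w = w⁻¹ * s := by
        calc s * w = (s * w * s⁻¹) * s := by group
          _ = w⁻¹ * s := by rw [hinv]
      apply orderOf_eq_prime
      · rw [pow_two]
        calc s * w * (s * w) = (w⁻¹ * s) * (s * w) := by rw [← h1]
          _ = w⁻¹ * (s * s) * w := by group
          _ = 1 := by rw [hss]; group
      · intro h2
        apply hnc
        have : w = s⁻¹ := eq_inv_of_mul_eq_one_right h2
        rw [this]
        exact (Commute.refl s).inv_right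
    · intro hc
      apply hnc
      have h2 : s * (s * w) = (s * w) * s := hc.eq
      have h3 := congrArg (fun x => s⁻¹ * x) h2
      have h4 : s * w = w * s := by simpa [mul_assoc] using h3
      exact h4
  let F : (Σ S : {S : Sylow p G // s ∈ normalizer ((S : Subgroup G) : Set G)},
      {w : G // w ∈ (S.1 : Subgroup G) ∧ w ≠ 1}) → {t : G // orderOf t = 2 ∧ ¬ Commute s t} :=
    fun x => ⟨s * x.2.1, hprop x.1.1 x.1.2 x.2.1 x.2.2⟩
  have hF : Function.Bijective F := by
    constructor
    · rintro ⟨⟨S, hS⟩, ⟨w, hw⟩⟩ ⟨⟨S', hS'⟩, ⟨w', hw'⟩⟩ hxy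
      have h1 : s * w = s * w' := congrArg Subtype.val hxy
      have h2 : w = w' := mul_left_cancel h1
      subst h2
      have h3 : S = S' := by
        apply Sylow.ext
        rw [← h.cent_p S w hw.1 hw.2, ← h.cent_p S' w hw'.1 hw'.2]
      subst h3
      rfl
    · rintro ⟨t, ht, hst⟩
      obtain ⟨S, hS, hsS⟩ := h.prod_mem s t hs ht hst
      have hw1 : s * t ≠ 1 := by
        intro h1
        apply hst
        have : t = s⁻¹ := eq_inv_of_mul_eq_one_right h1
        rw [this]
        exact (Commute.refl s).inv_right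
      refine ⟨⟨⟨S, hsS⟩, ⟨s * t, hS, hw1⟩⟩, ?_⟩
      apply Subtype.ext
      show s * (s * t) = t
      rw [← mul_assoc, hss, one_mul]
  haveI := Fintype.ofFinite {S : Sylow p G // s ∈ normalizer ((S : Subgroup G) : Set G)}
  rw [← Nat.card_congr (Equiv.ofBijective F hF), Nat.card_sigma]
  have hB : ∀ S : {S : Sylow p G // s ∈ normalizer ((S : Subgroup G) : Set G)},
      Nat.card {w : G // w ∈ (S.1 : Subgroup G) ∧ w ≠ 1} = Nat.card P - 1 := by
    intro S
    rw [card_ne_one]
    congr 1
    show Nat.card (S.1 : Subgroup G) = Nat.card (P : Subgroup G)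
    rw [S.1.card_eq_multiplicity, P.card_eq_multiplicity]
  rw [Finset.sum_congr rfl (fun S _ => hB S), Finset.sum_const, Finset.card_univ, smul_eq_mul,
    ← Nat.card_eq_fintype_card]

end Cfsg.Agent.Lib.Helper42.CYA
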