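import Cfsg.Agent.Lib.Helper42.CYA.Defs
import Cfsg.Agent.Lib.Helper42.CYA.E1C

/-! Ladder CYA (S4016), rung E1F. -/

namespace Cfsg.Agent.Lib.Helper42.CYA

open Subgroup

variable {G : Type*} [Group G] [Finite G] {p : ℕ} [Fact p.Prime]

/-- E1F: a nontrivial `p`-element acts without fixed points on any invariant set of involutions -/
theorem CA.dvd_card (h : CA p G) (g : G) (hg : g ≠ 1) (k : ℕ) (hgk : g ^ p ^ k = 1)
    (I : Set G) (hI : ∀ t ∈ I, orderOf t = 2) (hgI : ∀ t ∈ I, g * t * g⁻¹ ∈ I) :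
    p ∣ Nat.card I := by
  have hZ : ∀ z ∈ zpowers g, ∀ t ∈ I, z * t * z⁻¹ ∈ I := by
    intro z hz
    obtain ⟨n, rfl⟩ := mem_powers_iff_mem_zpowers.mpr hz
    induction n with
    | zero => intro t ht; simpa using ht
    | succ n ih =>
      intro t ht
      have h1 := hgI _ (ih (by exact pow_mem (mem_zpowers g) n) t ht)
      have e : g ^ (n + 1) * t * (g ^ (n + 1))⁻¹ = g * (g ^ n * t * (g ^ n)⁻¹) * g⁻¹ := by
        rw [pow_succ']; group
      rw [e]; exact h1
  letI act : MulAction (zpowers g) I :=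
    { smul := fun z t => ⟨z * t * (z : G)⁻¹, hZ z z.2 t t.2⟩
      one_smul := fun t => Subtype.ext (by show ((1 : zpowers g) : G) * t * ((1 : zpowers g) : G)⁻¹ = t; simp)
      mul_smul := fun a b t => Subtype.ext (by
        show ((a * b : zpowers g) : G) * t * ((a * b : zpowers g) : G)⁻¹ =
          (a : G) * ((b : G) * t * (b : G)⁻¹) * (a : G)⁻¹
        simp [mul_assoc]) }
  have hp : IsPGroup p (zpowers g) := by
    rw [IsPGroup.iff_card]
    obtain ⟨m, _, hm⟩ := (Nat.dvd_prime_pow (Fact.out : p.Prime)).1 (orderOf_dvd_of_pow_eq_one hgk)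
    exact ⟨m, by rw [Nat.card_zpowers, hm]⟩
  have h1 := hp.card_modEq_card_fixedPoints I
  have h2 : IsEmpty (MulAction.fixedPoints (zpowers g) I) := by
    refine ⟨fun t => ?_⟩
    have h3 := t.2 ⟨g, mem_zpowers g⟩
    have h4 : g * (t : I) * g⁻¹ = ((t : I) : G) := congrArg Subtype.val h3
    obtain ⟨S, hS⟩ := exists_sylow_of_pelem (p := p) g k hgk
    apply h.invol_not_mem ((t : I) : G) (hI _ (t : I).2) S
    have : ((t : I) : G) ∈ (S : Subgroup G) := by
      rw [← h.cent_p S g hS hg, mem_centralizer_singleton_iff]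
      calc ((t : I) : G) * g = (g * (t : I) * g⁻¹) * g := by rw [h4]
        _ = g * ((t : I) : G) := by group
    exact this
  have h5 : Nat.card (MulAction.fixedPoints (zpowers g) I) = 0 := Nat.card_of_isEmpty
  rw [h5] at h1
  exact (Nat.modEq_zero_iff_dvd).mp h1

end Cfsg.Agent.Lib.Helper42.CYA
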