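import Cfsg.Agent.Lib.Helper42.CYA.Defs
import Cfsg.Agent.Lib.Helper42.CYA.COMM
import Cfsg.Agent.Lib.Helper42.CYA.BURN
import Cfsg.Agent.Lib.Helper42.CYA.E1C

/-! Ladder CYA (S4016), rung E1G. -/

namespace Cfsg.Agent.Lib.Helper42.CYA

open Subgroup

variable {G : Type*} [Group G] [Finite G] {p : ℕ} [Fact p.Prime]

/-- an `r`-group, `r ≠ p`, is a `p'`-group -/
theorem not_dvd_card_sylow {r : ℕ} [Fact r.Prime] (hrp : r ≠ p) (R : Sylow r G) :
    ¬ p ∣ Nat.card (R : Subgroup G) := by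
  obtain ⟨n, hn⟩ := IsPGroup.iff_card.mp R.isPGroup'
  rw [hn]
  intro hd
  have := (Nat.prime_dvd_prime_iff_eq (Fact.out : p.Prime) (Fact.out : r.Prime)).mp
    ((Fact.out : p.Prime).dvd_of_dvd_pow hd)
  exact hrp this.symm

/-- E1G: a nontrivial `p`-element normalizes the centralizer of an involution -/
theorem CA.exists_p_normalizing (h : CA p G) (s : G) (hs : orderOf s = 2) :
    ∃ (g : G) (k : ℕ), g ≠ 1 ∧ g ^ p ^ k = 1 ∧ ∀ t : G, Commute s t → Commute s (g * t * g⁻¹) := by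
  have hsimp := h.simple
  obtain ⟨T, hsT⟩ := exists_sylow_of_pelem (p := 2) s 1 (by rw [pow_one, pow_two, invol_mul_self hs])
  have hT1 : (T : Subgroup G) ≠ ⊥ := by
    intro hb
    have : s ∈ (T : Subgroup G) := hsT
    rw [hb, mem_bot] at this
    exact invol_ne_one hs this
  have hTp : ¬ p ∣ Nat.card (T : Subgroup G) := not_dvd_card_sylow (Ne.symm h.p_ne_two) T
  have hTab := h.ab _ hTp
  have hb := burnside_simple h.nonab T hT1
  obtain ⟨g, hgN, hgC⟩ := SetLike.not_le_iff_exists.mp hb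
  have hgp : ¬ (orderOf g).Coprime p := by
    intro hgp
    apply hgC
    rw [mem_centralizer_iff]
    intro v hv
    exact (comm_of_normalizes h.ab _ hTp g hgN hgp v hv).eq.symm
  obtain ⟨k, hk⟩ := (h.dichot g).resolve_right hgp
  refine ⟨g, k, ?_, hk, ?_⟩
  · rintro rfl
    exact hgC (one_mem _)
  · intro t hst
    have hCab := h.ab _ (h.cent_pp s (invol_ne_one hs) (hs ▸ h.two_coprime))
    have hs' : g⁻¹ * s * g ∈ (T : Subgroup G) := (mem_normalizer_iff''.mp hgN s).mp hsT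
    have h1 : g⁻¹ * s * g ∈ centralizer ({s} : Set G) := by
      rw [mem_centralizer_singleton_iff]
      exact congrArg Subtype.val (hTab.is_comm.comm ⟨_, hs'⟩ ⟨s, hsT⟩)
    have h2 : t ∈ centralizer ({s} : Set G) := by
      rw [mem_centralizer_singleton_iff]
      exact hst.eq.symm
    have h3 : (g⁻¹ * s * g) * t = t * (g⁻¹ * s * g) :=
      congrArg Subtype.val (hCab.is_comm.comm ⟨_, h1⟩ ⟨t, h2⟩)
    show s * (g * t * g⁻¹) = g * t * g⁻¹ * s
    calc s * (g * t * g⁻¹) = g * ((g⁻¹ * s * g) * t) * g⁻¹ := by group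
      _ = g * (t * (g⁻¹ * s * g)) * g⁻¹ := by rw [h3]
      _ = g * t * g⁻¹ * s := by group

end Cfsg.Agent.Lib.Helper42.CYA
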