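import Cfsg.Agent.Lib.Helper42.CYA.Defs
import Cfsg.Agent.Lib.Helper42.CYA.E1C

/-! Ladder CYA (S4016), rung E1H. -/

namespace Cfsg.Agent.Lib.Helper42.CYA

open Subgroup

variable {G : Type*} [Group G] [Finite G] {p : ℕ} [Fact p.Prime]

theorem smul_eq_iff' (g : G) (P : Sylow p G) :
    g • P = P ↔ g ∈ normalizer ((P : Subgroup G) : Set G) := Sylow.smul_eq_iff_mem_normalizer

/-- transitivity of `C(s)` on the Sylow `p`-subgroups normalized by `s` -/
theorem CA.trans_aux (h : CA p G) (s : G) (hs : orderOf s = 2) (S S' : Sylow p G)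
    (hS : s ∈ normalizer ((S : Subgroup G) : Set G))
    (hS' : s ∈ normalizer ((S' : Subgroup G) : Set G)) :
    ∃ c ∈ centralizer ({s} : Set G), c • S = S' := by
  have hpp : p.Prime := Fact.out
  have hss := invol_mul_self hs
  obtain ⟨g, hg⟩ := MulAction.exists_smul_eq G S S'
  set s' := g⁻¹ * s * g with hs'
  have hs'o : orderOf s' = 2 := by
    have : orderOf (g⁻¹ * s * g⁻¹⁻¹) = orderOf s := by
      simpa using orderOf_injective (MulAut.conj g⁻¹).toMonoidHom (MulAut.conj g⁻¹).injective s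
    rw [inv_inv] at this
    rw [hs', this, hs]
  have hs'N : s' ∈ normalizer ((S : Subgroup G) : Set G) := by
    rw [← smul_eq_iff', hs', mul_smul, mul_smul, hg,
      (smul_eq_iff' _ _).mpr hS', ← hg, inv_smul_smul]
  have hi := h.inverts s hs S hS
  have hi' := h.inverts s' hs'o S hs'N
  set y := s * s' with hy
  obtain ⟨w0, hw0, hw01⟩ : ∃ w0 ∈ (S : Subgroup G), w0 ≠ 1 := by
    by_contra hcon
    push Not at hcon
    exact h.ne_bot S ((Subgroup.eq_bot_iff_forall _).mpr hcon)
  have hyS : y ∈ (S : Subgroup G) := by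
    rw [← h.cent_p S w0 hw0 hw01, mem_centralizer_singleton_iff]
    have h1 : y * w0 * y⁻¹ = w0 := by
      have e : y * w0 * y⁻¹ = s * (s' * w0 * s'⁻¹) * s⁻¹ := by rw [hy]; group
      rw [e, hi' w0 hw0, hi _ (inv_mem hw0), inv_inv]
    calc y * w0 = (y * w0 * y⁻¹) * y := by group
      _ = w0 * y := by rw [h1]
  obtain ⟨k, hk⟩ := sylow_pelem S y hyS
  have hodd : Odd (p ^ k) := (hpp.odd_of_ne_two h.p_ne_two).pow
  obtain ⟨m, hm⟩ := hodd
  set v := y ^ (m + 1) with hv
  have hvS : v ∈ (S : Subgroup G) := pow_mem hyS _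
  have hvv : v * v = y := by
    rw [hv, ← pow_add]
    have : m + 1 + (m + 1) = (2 * m + 1) + 1 := by ring
    rw [this, pow_succ, ← hm, hk, one_mul]
  have hsv : s * v = v⁻¹ * s := by
    calc s * v = (s * v * s⁻¹) * s := by group
      _ = v⁻¹ * s := by rw [hi v hvS]
  have hkey : s' = v⁻¹ * s * v := by
    rw [← hsv, mul_assoc, hvv, hy, ← mul_assoc, hss, one_mul]
  refine ⟨g * v⁻¹, ?_, ?_⟩
  · rw [mem_centralizer_singleton_iff]
    have h1 : g⁻¹ * s * g = v⁻¹ * s * v := hkey
    have h2 : s * g = g * (v⁻¹ * s * v) := by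
      rw [← h1]; group
    calc g * v⁻¹ * s = g * (v⁻¹ * s * v) * v⁻¹ := by group
      _ = s * g * v⁻¹ := by rw [← h2]
      _ = s * (g * v⁻¹) := by group
  · rw [mul_smul, (smul_eq_iff' _ _).mpr (le_normalizer (inv_mem hvS)), hg]

/-- E1H: `C(s)` is transitive on the Sylow `p`-subgroups normalized by the involution `s` -/
theorem CA.card_dvd (h : CA p G) (s : G) (hs : orderOf s = 2)
    (hne : Nonempty {S : Sylow p G // s ∈ normalizer ((S : Subgroup G) : Set G)}) :
    Nat.card {S : Sylow p G // s ∈ normalizer ((S : Subgroup G) : Set G)} ∣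
      Nat.card (centralizer ({s} : Set G)) := by
  let sub : SubMulAction (centralizer ({s} : Set G)) (Sylow p G) :=
    { carrier := {S | s ∈ normalizer ((S : Subgroup G) : Set G)}
      smul_mem' := by
        intro c S hS
        have hS' : s ∈ normalizer ((S : Subgroup G) : Set G) := hS
        show s ∈ normalizer (((c • S : Sylow p G) : Subgroup G) : Set G)
        rw [← smul_eq_iff']
        have hc : (c : G) * s = s * c := mem_centralizer_singleton_iff.mp c.2
        show s • ((c : G) • S) = (c : G) • S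
        rw [← mul_smul, ← hc, mul_smul, (smul_eq_iff' _ _).mpr hS'] }
  haveI : MulAction.IsPretransitive (centralizer ({s} : Set G)) sub := by
    refine ⟨fun x y => ?_⟩
    obtain ⟨c, hc, hcS⟩ := h.trans_aux s hs x.1 y.1 x.2 y.2
    exact ⟨⟨c, hc⟩, Subtype.ext hcS⟩
  obtain ⟨x⟩ := hne
  have h1 := MulAction.index_stabilizer_of_transitive (centralizer ({s} : Set G)) (⟨x.1, x.2⟩ : sub)
  have h2 : Nat.card sub = Nat.card {S : Sylow p G // s ∈ normalizer ((S : Subgroup G) : Set G)} :=
    rfl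
  rw [← h2, ← h1]
  exact Subgroup.index_dvd_card _

end Cfsg.Agent.Lib.Helper42.CYA
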