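import Cfsg.Agent.Lib.Helper42.CYA.Defs
import Cfsg.Agent.Lib.Helper42.CYA.E1B
import Cfsg.Agent.Lib.Helper42.CYA.E1E
import Cfsg.Agent.Lib.Helper42.CYA.E1F
import Cfsg.Agent.Lib.Helper42.CYA.E1G
import Cfsg.Agent.Lib.Helper42.CYA.E1H

/-! Ladder CYA (S4016), rung E1I. -/

namespace Cfsg.Agent.Lib.Helper42.CYA

open Subgroup

variable {G : Type*} [Group G] [Finite G] {p : ℕ} [Fact p.Prime]

theorem orderOf_conj' (g t : G) : orderOf (g * t * g⁻¹) = orderOf t := by
  simpa using orderOf_injective (MulAut.conj g).toMonoidHom (MulAut.conj g).injective t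

theorem card_split (Q R : G → Prop) :
    Nat.card {t : G // Q t} = Nat.card {t : G // Q t ∧ R t} + Nat.card {t : G // Q t ∧ ¬ R t} := by
  classical
  haveI := Fintype.ofFinite G
  rw [Nat.card_eq_fintype_card, Nat.card_eq_fintype_card, Nat.card_eq_fintype_card,
    Fintype.card_subtype, Fintype.card_subtype, Fintype.card_subtype,
    ← Finset.filter_filter, ← Finset.filter_filter,
    Finset.card_filter_add_card_filter_not]

/-- E1I: case E1 is impossible -/
theorem CA.false (h : CA p G) : False := by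
  have hpp : p.Prime := Fact.out
  have hsimp := h.simple
  obtain ⟨s, hs⟩ := exists_prime_orderOf_dvd_card' 2 (even_iff_two_dvd.mp h.even)
  obtain ⟨P⟩ : Nonempty (Sylow p G) := inferInstance
  obtain ⟨g0, hg0, hg01⟩ : ∃ w0 ∈ (P : Subgroup G), w0 ≠ 1 := by
    by_contra hcon
    push Not at hcon
    exact h.ne_bot P ((Subgroup.eq_bot_iff_forall _).mpr hcon)
  obtain ⟨k0, hk0⟩ := sylow_pelem P g0 hg0
  have h1 : p ∣ Nat.card {t : G // orderOf t = 2} :=
    h.dvd_card g0 hg01 k0 hk0 {t | orderOf t = 2} (fun t ht => ht)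
      (fun t ht => by
        show orderOf (g0 * t * g0⁻¹) = 2
        rw [orderOf_conj']; exact ht)
  obtain ⟨g, k, hg1, hgk, hgs⟩ := h.exists_p_normalizing s hs
  have h2 : p ∣ Nat.card {t : G // orderOf t = 2 ∧ Commute s t} :=
    h.dvd_card g hg1 k hgk {t | orderOf t = 2 ∧ Commute s t} (fun t ht => ht.1)
      (fun t ht => by
        refine ⟨?_, hgs t ht.2⟩
        rw [orderOf_conj']; exact ht.1)
  have h3 : p ∣ Nat.card {t : G // orderOf t = 2 ∧ ¬ Commute s t} := by
    rw [card_split (fun t => orderOf t = 2) (fun t => Commute s t)] at h1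
    exact (Nat.dvd_add_right h2).mp h1
  rw [h.count s hs P] at h3
  have h4 : ¬ p ∣ Nat.card P - 1 := by
    intro hd
    obtain ⟨n, hn⟩ := IsPGroup.iff_card.mp P.isPGroup'
    have hn0 : n ≠ 0 := by
      rintro rfl
      rw [pow_zero] at hn
      exact h.ne_bot P (Subgroup.card_eq_one.mp hn)
    have h5 : p ∣ Nat.card P := by
      show p ∣ Nat.card (P : Subgroup G)
      rw [hn]; exact dvd_pow_self p hn0
    have h6 : 0 < Nat.card P := Nat.card_pos
    have h7 : p ∣ 1 := by
      have := (Nat.dvd_sub h5 hd)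
      rwa [Nat.sub_sub_self h6] at this
    exact hpp.one_lt.ne' (Nat.dvd_one.mp h7)
  have h5 : p ∣ Nat.card {S : Sylow p G // s ∈ normalizer ((S : Subgroup G) : Set G)} :=
    (hpp.dvd_mul.mp h3).resolve_right h4
  have h6 : IsEmpty {S : Sylow p G // s ∈ normalizer ((S : Subgroup G) : Set G)} := by
    by_contra hne
    rw [not_isEmpty_iff] at hne
    exact h.cent_pp s (invol_ne_one hs) (hs ▸ h.two_coprime) (h5.trans (h.card_dvd s hs hne))
  have h7 : ∀ t : G, orderOf t = 2 → Commute s t := by
    intro t ht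
    by_contra hst
    obtain ⟨S, _, hS⟩ := h.prod_mem s t hs ht hst
    exact h6.false ⟨S, hS⟩
  have h8 : normalClosure ({s} : Set G) ≤ centralizer ({s} : Set G) := by
    rw [normalClosure, closure_le]
    intro x hx
    rw [Group.mem_conjugatesOfSet_iff] at hx
    obtain ⟨a, ha, hax⟩ := hx
    rw [Set.mem_singleton_iff] at ha
    subst ha
    obtain ⟨c, rfl⟩ := isConj_iff.mp hax
    rw [SetLike.mem_coe, mem_centralizer_singleton_iff]
    exact (h7 _ (by rw [orderOf_conj']; exact hs)).eq.symm
  have h9 : normalClosure ({s} : Set G) = ⊤ := by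
    rcases (normalClosure_normal (s := ({s} : Set G))).eq_bot_or_eq_top with hb | ht
    · exfalso
      have : s ∈ normalClosure ({s} : Set G) := subset_normalClosure (Set.mem_singleton s)
      rw [hb, mem_bot] at this
      exact invol_ne_one hs this
    · exact ht
  have hec : s ∈ center G := by
    rw [mem_center_iff]
    intro x
    have : x ∈ centralizer ({s} : Set G) := h8 (by rw [h9]; trivial)
    exact (mem_centralizer_singleton_iff.mp this)
  rcases (inferInstance : (center G).Normal).eq_bot_or_eq_top with hb | ht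
  · rw [hb, mem_bot] at hec
    exact invol_ne_one hs hec
  · obtain ⟨a, b, hab'⟩ := h.nonab
    apply hab'
    have : a ∈ center G := by rw [ht]; trivial
    exact ((mem_center_iff.mp this) b).symm

end Cfsg.Agent.Lib.Helper42.CYA
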