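import Cfsg.Agent.Lib.Helper42.CYA.Defs
import Cfsg.Agent.Lib.Helper42.CYA.COMM
import Cfsg.Agent.Lib.Helper42.CYA.BURN
import Cfsg.Agent.Lib.Helper42.CYA.E1G

/-! Ladder CYA (S4016), rung E2A. -/

namespace Cfsg.Agent.Lib.Helper42.CYA

open Subgroup

variable {G : Type*} [Group G] [Finite G] {p : ℕ} [Fact p.Prime]

theorem coprime_of_mem_sylow {r : ℕ} [Fact r.Prime] (hrp : r ≠ p) (R : Sylow r G) {x : G}
    (hx : x ∈ R) : (orderOf x).Coprime p :=
  Nat.Coprime.coprime_dvd_left (Subgroup.orderOf_dvd_natCard (R : Subgroup G) hx)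
    ((Nat.Prime.coprime_iff_not_dvd Fact.out).mpr (not_dvd_card_sylow hrp R)).symm

theorem Ctx.sylow_comm' (h : Ctx p G) {r : ℕ} [Fact r.Prime] (hrp : r ≠ p) (R : Sylow r G)
    {a b : G} (ha : a ∈ R) (hb : b ∈ R) : a * b = b * a :=
  congrArg Subtype.val ((h.ab _ (not_dvd_card_sylow hrp R)).is_comm.comm ⟨a, ha⟩ ⟨b, hb⟩)

/-- E2A -/
theorem e2a (h : Ctx p G) (P : Sylow p G) {r : ℕ} [Fact r.Prime] (a : G) (ha : orderOf a = r)
    (hrp : r ≠ p) (hc : ∀ x ∈ P, Commute a x) (R : Sylow r G) (haR : a ∈ R) :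
    (R : Subgroup G) ≤ normalizer ((P : Subgroup G) : Set G) ∧
      ∃ u ∈ normalizer ((R : Subgroup G) : Set G),
        ∀ k : ℕ, 0 < k → k < p → u ^ k ∉ normalizer ((P : Subgroup G) : Set G) := by
  have hpp : p.Prime := Fact.out
  have hrr : r.Prime := Fact.out
  have hsimp := h.simple
  have ha1 : a ≠ 1 := by
    rintro rfl
    rw [orderOf_one] at ha
    exact hrr.one_lt.ne ha
  have hap : (orderOf a).Coprime p := coprime_of_mem_sylow hrp R haR
  have hcen := h.cen P a ha1 hap hc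
  have hRp := not_dvd_card_sylow hrp R
  have hRM : (R : Subgroup G) ≤ normalizer ((P : Subgroup G) : Set G) := by
    rw [← hcen]
    intro x hx
    rw [mem_centralizer_singleton_iff]
    exact h.sylow_comm' hrp R hx haR
  refine ⟨hRM, ?_⟩
  have hR1 : (R : Subgroup G) ≠ ⊥ := by
    intro hb
    have : a ∈ (R : Subgroup G) := haR
    rw [hb, mem_bot] at this
    exact ha1 this
  obtain ⟨g, hgN, hgC⟩ := SetLike.not_le_iff_exists.mp (burnside_simple h.nonab R hR1)
  obtain ⟨u, c, hu, hcz, hg', ⟨n, hn⟩, hcc⟩ := Cfsg.Agent.Lib.Helper71.exists_p_decomp p g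
  have hzg : zpowers g ≤ normalizer ((R : Subgroup G) : Set G) := by rw [zpowers_le]; exact hgN
  have hcR := comm_of_normalizes h.ab _ hRp c (hzg hcz) hcc
  have huC : u ∉ centralizer ((R : Subgroup G) : Set G) := by
    intro huC
    apply hgC
    rw [hg']
    refine mul_mem huC ?_
    rw [mem_centralizer_iff]
    intro x hx
    exact (hcR x hx).eq.symm
  refine ⟨u, hzg hu, ?_⟩
  intro k hk0 hkp hukM
  apply huC
  have hkcop : Nat.Coprime k (orderOf u) := by
    have h1 : orderOf u ∣ p ^ n := orderOf_dvd_of_pow_eq_one hn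
    have h2 : Nat.Coprime k p :=
      ((Nat.Prime.coprime_iff_not_dvd hpp).mpr (Nat.not_dvd_of_pos_of_lt hk0 hkp)).symm
    exact Nat.Coprime.coprime_dvd_right h1 (Nat.Coprime.pow_right n h2)
  obtain ⟨m, hm⟩ := exists_pow_eq_self_of_coprime hkcop
  have huM : u ∈ normalizer ((P : Subgroup G) : Set G) := by
    rw [← hm]; exact pow_mem hukM m
  have huP : u ∈ P := mem_of_pelem P u huM n hn
  rw [mem_centralizer_iff]
  intro x hx
  have h1 : u * x * u⁻¹ ∈ (R : Subgroup G) := (mem_normalizer_iff.mp (hzg hu) x).mp hx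
  have h2 : x * u⁻¹ * x⁻¹ ∈ (P : Subgroup G) :=
    (mem_normalizer_iff.mp (hRM hx) u⁻¹).mp (inv_mem huP)
  set y := u * x * u⁻¹ * x⁻¹ with hy
  have hyR : y ∈ (R : Subgroup G) := mul_mem h1 (inv_mem hx)
  have hyP : y ∈ (P : Subgroup G) := by
    have e : y = u * (x * u⁻¹ * x⁻¹) := by rw [hy]; group
    rw [e]; exact mul_mem huP h2
  obtain ⟨j, hj⟩ := sylow_pelem P y hyP
  have hy1 : y = 1 := eq_one_of_pelem_of_coprime y j hj (coprime_of_mem_sylow hrp R hyR)
  calc x * u = y⁻¹ * (u * x * u⁻¹ * x⁻¹) * x * u := by rw [← hy]; group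
    _ = y⁻¹ * (u * x) := by group
    _ = u * x := by rw [hy1]; group

end Cfsg.Agent.Lib.Helper42.CYA
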