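import Cfsg.Agent.Lib.Helper42.CYA.Defs
import Cfsg.Agent.Lib.Helper42.CYA.COMM
import Cfsg.Agent.Lib.Helper42.CYA.E1A

/-! Ladder CYA (S4016), rung E2B. -/

namespace Cfsg.Agent.Lib.Helper42.CYA

open Subgroup

variable {G : Type*} [Group G] [Finite G] {p : ℕ} [Fact p.Prime]

/-- E2B -/
theorem e2b (h : Ctx p G) (P : Sylow p G) (x y g : G) (hx : (orderOf x).Coprime p)
    (hxc : ∀ z ∈ P, Commute x z) (hyc : ∀ z ∈ P, Commute y z)
    (hg : g ∉ normalizer ((P : Subgroup G) : Set G)) (hxy : x = g * y * g⁻¹) : y = 1 := by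
  by_contra hy1
  have hx1 : x ≠ 1 := by
    intro h1
    apply hy1
    rw [h1] at hxy
    have : g⁻¹ * 1 * g = g⁻¹ * (g * y * g⁻¹) * g := by rw [← hxy]
    simpa [mul_assoc] using this.symm
  have hcx := h.cen P x hx1 hx hxc
  apply hg
  apply Cfsg.Agent.Lib.Helper11.mem_normalizer_of_conj_mem
  intro d hd
  have h1 : y * d = d * y := (hyc d hd).eq
  have h2 : g * d * g⁻¹ ∈ normalizer ((P : Subgroup G) : Set G) := by
    rw [← hcx, mem_centralizer_singleton_iff, hxy]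
    calc g * d * g⁻¹ * (g * y * g⁻¹) = g * (d * y) * g⁻¹ := by group
      _ = g * (y * d) * g⁻¹ := by rw [h1]
      _ = g * y * g⁻¹ * (g * d * g⁻¹) := by group
  obtain ⟨k, hk⟩ := sylow_pelem P d hd
  exact mem_of_pelem P _ h2 k (by rw [conj_pow, hk]; group)

end Cfsg.Agent.Lib.Helper42.CYA
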