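import Cfsg.Agent.Lib.Helper42.CYA.Defs
import Cfsg.Agent.Lib.Helper42.CYA.BAS
import Cfsg.Agent.Lib.Helper42.CYA.KEY

/-! Ladder CYA (S4016), rung MN. -/

namespace Cfsg.Agent.Lib.Helper42.CYA

open Subgroup

variable {G : Type*} [Group G] [Finite G] {p : ℕ} [Fact p.Prime]

/-- subgroups of a cyclic subgroup are normalized by its normalizer -/
theorem normalizer_le_of_le_cyclic (P X : Subgroup G) (hc : IsCyclic P) (hX : X ≤ P) :
    normalizer (P : Set G) ≤ normalizer (X : Set G) := by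
  intro x hx
  apply Cfsg.Agent.Lib.Helper11.mem_normalizer_of_conj_mem
  intro a ha
  obtain ⟨⟨z0, hz0P⟩, hgen⟩ := hc.exists_generator
  have hgen' : ∀ z ∈ P, ∃ i : ℕ, z = z0 ^ i := by
    intro z hz
    have h1 := hgen ⟨z, hz⟩
    obtain ⟨i, hi⟩ := (mem_powers_iff_mem_zpowers.mpr h1)
    exact ⟨i, by simpa using (congrArg Subtype.val hi).symm⟩
  obtain ⟨k, hk⟩ := hgen' _ ((mem_normalizer_iff.mp hx z0).mp hz0P)
  obtain ⟨i, hi⟩ := hgen' a (hX ha)
  have : x * a * x⁻¹ = a ^ k := by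
    rw [hi, ← conj_pow, hk, ← pow_mul, ← pow_mul, mul_comm]
  rw [this]
  exact X.pow_mem ha k

/-- M -/
theorem MC.norm_le (h : MC p G) (P : Sylow p G) (X : Subgroup G) (hX : X ≤ P) (hX1 : X ≠ ⊥) :
    normalizer (X : Set G) ≤ normalizer ((P : Subgroup G) : Set G) := by
  have hs := h.simple
  refine h.le_of_ge P _ ?_ (normalizer_le_of_le_cyclic _ _ (h.hyp.1 P) hX)
  intro htop
  have hn : X.Normal := normalizer_eq_top_iff.mp htop
  rcases hn.eq_bot_or_eq_top with h1 | h1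
  · exact hX1 h1
  · obtain ⟨a, b, hab⟩ := h.nonab
    apply hab
    have hcyc : IsCyclic P := h.hyp.1 P
    have ha : a ∈ (P : Subgroup G) := hX (by rw [h1]; trivial)
    have hb : b ∈ (P : Subgroup G) := hX (by rw [h1]; trivial)
    letI := IsCyclic.commGroup (α := P)
    exact congrArg Subtype.val (mul_comm (⟨a, ha⟩ : P) ⟨b, hb⟩)

end Cfsg.Agent.Lib.Helper42.CYA
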