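import Cfsg.Agent.Lib.Helper42.CYA.Defs
import Cfsg.Agent.Lib.Helper42.CYA.DICH
import Cfsg.Agent.Lib.Helper42.CYA.MN
import Cfsg.Agent.Lib.Helper42.CYA.E2A
import Cfsg.Agent.Lib.Helper42.CYA.E2B

/-! Ladder CYA (S4016), rung E2C1. -/

namespace Cfsg.Agent.Lib.Helper42.CYA

open Subgroup

variable {G : Type*} [Group G] [Finite G] {p : ℕ} [Fact p.Prime]

/-- action on a subgroup of order `p` -/
theorem act_exists (z : G) (hz : orderOf z = p) (y : G)
    (hy : y ∈ normalizer ((zpowers z : Subgroup G) : Set G)) (m : ℕ) (hym : y ^ m = 1) :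
    ∃ k : ℕ, y * z * y⁻¹ = z ^ k ∧ ((k : ZMod p)) ^ m = 1 := by
  have h1 : y * z * y⁻¹ ∈ zpowers z := (mem_normalizer_iff.mp hy z).mp (mem_zpowers z)
  obtain ⟨k, hk⟩ := mem_powers_iff_mem_zpowers.mpr h1
  have hk' : y * z * y⁻¹ = z ^ k := hk.symm
  have hit : ∀ n : ℕ, y ^ n * z * (y ^ n)⁻¹ = z ^ (k ^ n) := by
    intro n
    induction n with
    | zero => simp
    | succ n ih =>
      have : y ^ (n + 1) * z * (y ^ (n + 1))⁻¹ = y * (y ^ n * z * (y ^ n)⁻¹) * y⁻¹ := by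
        rw [pow_succ']; group
      rw [this, ih, ← conj_pow, hk', ← pow_mul, pow_succ']
  refine ⟨k, hk', ?_⟩
  have h2 := hit m
  rw [hym] at h2
  have h3 : z ^ (k ^ m) = z ^ 1 := by rw [← h2]; simp
  have h4 : k ^ m ≡ 1 [MOD p] := by
    rw [← hz]; exact pow_eq_pow_iff_modEq.mp h3
  have h5 := (ZMod.natCast_eq_natCast_iff _ _ _).mpr h4
  simpa using h5

/-- an element of order `p` in a Sylow `p`-subgroup -/
theorem Ctx.exists_order_p (h : Ctx p G) (P : Sylow p G) : ∃ z ∈ P, orderOf z = p := by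
  have hd : p ∣ Nat.card (P : Subgroup G) := by
    obtain ⟨n, hn⟩ := IsPGroup.iff_card.mp P.isPGroup'
    have hn0 : n ≠ 0 := by
      rintro rfl
      rw [pow_zero] at hn
      exact h.ne_bot P (Subgroup.card_eq_one.mp hn)
    rw [hn]; exact dvd_pow_self p hn0
  obtain ⟨x, hx⟩ := exists_prime_orderOf_dvd_card' p hd
  exact ⟨x, x.2, by rw [Subgroup.orderOf_coe]; exact hx⟩

theorem Ctx.norm_zpowers (h : Ctx p G) (P : Sylow p G) {z : G} (hz : z ∈ P) :
    normalizer ((P : Subgroup G) : Set G) ≤ normalizer ((zpowers z : Subgroup G) : Set G) :=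
  normalizer_le_of_le_cyclic _ _ (h.cyc P) (by rw [zpowers_le]; exact hz)

/-- E2C1 -/
theorem e2c1 (h : Ctx p G) (P : Sylow p G) {r : ℕ} [Fact r.Prime] (a : G) (ha : orderOf a = r)
    (hrp : r ≠ p) (hc : ∀ x ∈ P, Commute a x) : r ∣ p - 1 := by
  have hpp : p.Prime := Fact.out
  have hrr : r.Prime := Fact.out
  have ha1 : a ≠ 1 := by
    rintro rfl
    rw [orderOf_one] at ha
    exact hrr.one_lt.ne ha
  obtain ⟨R, haR⟩ := exists_sylow_of_pelem (p := r) a 1 (by rw [pow_one, ← ha, pow_orderOf_eq_one])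
  obtain ⟨hRM, u, huN, huk⟩ := e2a h P a ha hrp hc R haR
  set b := u * a * u⁻¹ with hb
  have hbR : b ∈ (R : Subgroup G) := (mem_normalizer_iff.mp huN a).mp haR
  have hbp : (orderOf b).Coprime p := coprime_of_mem_sylow hrp R hbR
  have hbP : ¬ ∀ z ∈ P, Commute b z := by
    intro hbc
    have hu1 : u ∉ normalizer ((P : Subgroup G) : Set G) := by
      have := huk 1 Nat.one_pos hpp.one_lt
      rwa [pow_one] at this
    exact ha1 (e2b h P b a u hbp hbc hc hu1 hb)
  obtain ⟨z, hzP, hzo⟩ := h.exists_order_p P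
  have hz1 : z ≠ 1 := by
    rintro rfl
    rw [orderOf_one] at hzo
    exact hpp.one_lt.ne hzo
  have hbz : ¬ Commute b z := fun hcz =>
    hbP (dich (P : Subgroup G) P.isPGroup' (h.cyc P) b (hRM hbR) hbp z hzP hz1 hcz)
  have hbr : b ^ r = 1 := by
    rw [hb, conj_pow, ← ha, pow_orderOf_eq_one]; group
  obtain ⟨k, hk, hkr⟩ := act_exists z hzo b (h.norm_zpowers P hzP (hRM hbR)) r hbr
  have hk1 : (k : ZMod p) ≠ 1 := by
    intro h1
    apply hbz
    have h2 : k ≡ 1 [MOD p] := by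
      have : ((k : ℕ) : ZMod p) = ((1 : ℕ) : ZMod p) := by simpa using h1
      exact (ZMod.natCast_eq_natCast_iff _ _ _).mp this
    have h3 : z ^ k = z ^ 1 := by
      rw [pow_eq_pow_iff_modEq, hzo]; exact h2
    rw [h3, pow_one] at hk
    show b * z = z * b
    calc b * z = (b * z * b⁻¹) * b := by group
      _ = z * b := by rw [hk]
  have ho : orderOf (k : ZMod p) = r := orderOf_eq_prime hkr hk1
  have hk0 : (k : ZMod p) ≠ 0 := by
    intro h0
    rw [h0, zero_pow hrr.ne_zero] at hkr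
    exact zero_ne_one hkr
  rw [← ho]
  exact ZMod.orderOf_dvd_card_sub_one hk0

end Cfsg.Agent.Lib.Helper42.CYA
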