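import Cfsg.Agent.Lib.Helper42.CYA.Defs
import Cfsg.Agent.Lib.Helper42.CYA.DICH
import Cfsg.Agent.Lib.Helper42.CYA.E2C1

/-! Ladder CYA (S4016), rung E2C2. -/

namespace Cfsg.Agent.Lib.Helper42.CYA

open Subgroup

variable {G : Type*} [Group G] [Finite G] {p : ℕ} [Fact p.Prime]

/-- E2C2: `|Ω| ≤ r |Ω₀|` -/
theorem e2c2 (h : Ctx p G) (P : Sylow p G) {r : ℕ} [Fact r.Prime] (hrp : r ≠ p) (R : Sylow r G)
    (hRM : (R : Subgroup G) ≤ normalizer ((P : Subgroup G) : Set G)) :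
    Nat.card {x : G // x ∈ R ∧ x ^ r = 1} ≤
      r * Nat.card {x : G // x ∈ R ∧ x ^ r = 1 ∧ ∀ z ∈ P, Commute x z} := by
  classical
  have hpp : p.Prime := Fact.out
  have hrr : r.Prime := Fact.out
  obtain ⟨z, hzP, hzo⟩ := h.exists_order_p P
  have hz1 : z ≠ 1 := by
    rintro rfl
    rw [orderOf_one] at hzo
    exact hpp.one_lt.ne hzo
  have hex : ∀ x : {x : G // x ∈ R ∧ x ^ r = 1}, ∃ k : ℕ, (x : G) * z * (x : G)⁻¹ = z ^ k ∧
      ((k : ZMod p)) ^ r = 1 := fun x =>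
    act_exists z hzo x (h.norm_zpowers P hzP (hRM x.2.1)) r x.2.2
  choose kk hkk1 hkk2 using hex
  let κ : {x : G // x ∈ R ∧ x ^ r = 1} → ZMod p := fun x => (kk x : ZMod p)
  haveI := Fintype.ofFinite {x : G // x ∈ R ∧ x ^ r = 1}
  have hfib : ∀ c ∈ (Finset.univ : Finset {x : G // x ∈ R ∧ x ^ r = 1}).image κ,
      ((Finset.univ : Finset {x : G // x ∈ R ∧ x ^ r = 1}).filter fun x => κ x = c).card ≤
        Nat.card {x : G // x ∈ R ∧ x ^ r = 1 ∧ ∀ z ∈ P, Commute x z} := by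
    intro c hc
    obtain ⟨x0, _, hx0⟩ := Finset.mem_image.mp hc
    rw [← Fintype.card_subtype, ← Nat.card_eq_fintype_card]
    have hwd : ∀ x : {x : {x : G // x ∈ R ∧ x ^ r = 1} // κ x = c},
        (x0 : G)⁻¹ * ((x : {x : G // x ∈ R ∧ x ^ r = 1}) : G) ∈ R ∧
        ((x0 : G)⁻¹ * ((x : {x : G // x ∈ R ∧ x ^ r = 1}) : G)) ^ r = 1 ∧
        ∀ z ∈ P, Commute ((x0 : G)⁻¹ * ((x : {x : G // x ∈ R ∧ x ^ r = 1}) : G)) z := by
      rintro ⟨⟨x, hxR, hxr⟩, hxc⟩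
      have hmem : (x0 : G)⁻¹ * x ∈ R := mul_mem (inv_mem x0.2.1) hxR
      refine ⟨hmem, ?_, ?_⟩
      · have hcm : Commute (x0 : G)⁻¹ x := h.sylow_comm' hrp R (inv_mem x0.2.1) hxR
        rw [hcm.mul_pow, inv_pow, x0.2.2, hxr]; simp
      · have h1 : (kk ⟨x, hxR, hxr⟩ : ZMod p) = (kk x0 : ZMod p) := hxc.trans hx0.symm
        have h2 : kk ⟨x, hxR, hxr⟩ ≡ kk x0 [MOD p] := (ZMod.natCast_eq_natCast_iff _ _ _).mp h1
        have h3 : z ^ kk ⟨x, hxR, hxr⟩ = z ^ kk x0 := by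
          rw [pow_eq_pow_iff_modEq, hzo]; exact h2
        have h4 : x * z * x⁻¹ = (x0 : G) * z * (x0 : G)⁻¹ := by
          rw [hkk1 x0, ← h3, ← hkk1 ⟨x, hxR, hxr⟩]
        have h5 : Commute ((x0 : G)⁻¹ * x) z := by
          show (x0 : G)⁻¹ * x * z = z * ((x0 : G)⁻¹ * x)
          calc (x0 : G)⁻¹ * x * z = (x0 : G)⁻¹ * (x * z * x⁻¹) * x := by group
            _ = (x0 : G)⁻¹ * ((x0 : G) * z * (x0 : G)⁻¹) * x := by rw [h4]
            _ = z * ((x0 : G)⁻¹ * x) := by group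
        exact dich (P : Subgroup G) P.isPGroup' (h.cyc P) _ (hRM hmem)
          (coprime_of_mem_sylow hrp R hmem) z hzP hz1 h5
    refine Nat.card_le_card_of_injective (fun x => ⟨_, hwd x⟩) ?_
    intro x y hxy
    have h1 : (x0 : G)⁻¹ * ((x : {x : G // x ∈ R ∧ x ^ r = 1}) : G) =
        (x0 : G)⁻¹ * ((y : {x : G // x ∈ R ∧ x ^ r = 1}) : G) := congrArg Subtype.val hxy
    exact Subtype.ext (Subtype.ext (mul_left_cancel h1))
  have h1 := Finset.card_le_mul_card_image (Finset.univ : Finset {x : G // x ∈ R ∧ x ^ r = 1}) _ hfib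
  have h2 : ((Finset.univ : Finset {x : G // x ∈ R ∧ x ^ r = 1}).image κ).card ≤ r := by
    have hsub : (Finset.univ : Finset {x : G // x ∈ R ∧ x ^ r = 1}).image κ ⊆
        Polynomial.nthRootsFinset r (1 : ZMod p) := by
      intro c hc
      obtain ⟨x, _, rfl⟩ := Finset.mem_image.mp hc
      rw [Polynomial.mem_nthRootsFinset hrr.pos]
      exact hkk2 x
    refine (Finset.card_le_card hsub).trans ?_
    unfold Polynomial.nthRootsFinset
    exact (@Multiset.toFinset_card_le _ (Classical.decEq _) _).trans (Polynomial.card_nthRoots r 1)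
  rw [Nat.card_eq_fintype_card, ← Finset.card_univ]
  calc (Finset.univ : Finset {x : G // x ∈ R ∧ x ^ r = 1}).card
      ≤ Nat.card {x : G // x ∈ R ∧ x ^ r = 1 ∧ ∀ z ∈ P, Commute x z} *
        ((Finset.univ : Finset {x : G // x ∈ R ∧ x ^ r = 1}).image κ).card := h1
    _ ≤ Nat.card {x : G // x ∈ R ∧ x ^ r = 1 ∧ ∀ z ∈ P, Commute x z} * r :=
        Nat.mul_le_mul_left _ h2
    _ = r * Nat.card {x : G // x ∈ R ∧ x ^ r = 1 ∧ ∀ z ∈ P, Commute x z} := mul_comm _ _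

end Cfsg.Agent.Lib.Helper42.CYA
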