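import Cfsg.Agent.Lib.Helper42.CYA.Defs
import Cfsg.Agent.Lib.Helper42.CYA.E2A
import Cfsg.Agent.Lib.Helper42.CYA.E2B

/-! Ladder CYA (S4016), rung E2C3. -/

namespace Cfsg.Agent.Lib.Helper42.CYA

open Subgroup

variable {G : Type*} [Group G] [Finite G] {p : ℕ} [Fact p.Prime]

theorem card_subtype_ne {α : Type*} [Finite α] (a : α) :
    Nat.card {x : α // x ≠ a} = Nat.card α - 1 := by
  classical
  haveI := Fintype.ofFinite α
  rw [Nat.card_eq_fintype_card, Nat.card_eq_fintype_card, Fintype.card_subtype,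
    Finset.filter_ne' Finset.univ a, Finset.card_erase_of_mem (Finset.mem_univ _),
    Finset.card_univ]

/-- E2C3: `|Ω₀|² ≤ |Ω|` and `1 + p (|Ω₀| - 1) ≤ |Ω|` -/
theorem e2c3 (h : Ctx p G) (P : Sylow p G) {r : ℕ} [Fact r.Prime] (hrp : r ≠ p) (R : Sylow r G)
    (u : G) (hu : u ∈ normalizer ((R : Subgroup G) : Set G))
    (huk : ∀ k : ℕ, 0 < k → k < p → u ^ k ∉ normalizer ((P : Subgroup G) : Set G)) :
    Nat.card {x : G // x ∈ R ∧ x ^ r = 1 ∧ ∀ z ∈ P, Commute x z} ^ 2 ≤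
        Nat.card {x : G // x ∈ R ∧ x ^ r = 1} ∧
      1 + p * (Nat.card {x : G // x ∈ R ∧ x ^ r = 1 ∧ ∀ z ∈ P, Commute x z} - 1) ≤
        Nat.card {x : G // x ∈ R ∧ x ^ r = 1} := by
  have hpp : p.Prime := Fact.out
  have hconj : ∀ (i : ℕ) (y : G), y ∈ R ∧ y ^ r = 1 →
      u ^ i * y * (u ^ i)⁻¹ ∈ R ∧ (u ^ i * y * (u ^ i)⁻¹) ^ r = 1 := by
    intro i y hy
    refine ⟨(mem_normalizer_iff.mp (pow_mem hu i) y).mp hy.1, ?_⟩
    rw [conj_pow, hy.2]; group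
  constructor
  · rw [pow_two, ← Nat.card_prod]
    have hwd : ∀ x : {x : G // x ∈ R ∧ x ^ r = 1 ∧ ∀ z ∈ P, Commute x z} ×
        {x : G // x ∈ R ∧ x ^ r = 1 ∧ ∀ z ∈ P, Commute x z},
        (x.1 : G) * (u ^ 1 * (x.2 : G) * (u ^ 1)⁻¹) ∈ R ∧
          ((x.1 : G) * (u ^ 1 * (x.2 : G) * (u ^ 1)⁻¹)) ^ r = 1 := by
      rintro ⟨⟨x, hx1, hx2, hx3⟩, ⟨y, hy1, hy2, hy3⟩⟩
      obtain ⟨h1, h2⟩ := hconj 1 y ⟨hy1, hy2⟩
      refine ⟨mul_mem hx1 h1, ?_⟩
      have hcm : Commute x (u ^ 1 * y * (u ^ 1)⁻¹) := h.sylow_comm' hrp R hx1 h1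
      rw [hcm.mul_pow, hx2, h2, one_mul]
    refine Nat.card_le_card_of_injective (fun x => ⟨_, hwd x⟩) ?_
    rintro ⟨⟨x, hx1, hx2, hx3⟩, ⟨y, hy1, hy2, hy3⟩⟩ ⟨⟨x', hx1', hx2', hx3'⟩, ⟨y', hy1', hy2', hy3'⟩⟩ hxy
    have h1 : x * (u ^ 1 * y * (u ^ 1)⁻¹) = x' * (u ^ 1 * y' * (u ^ 1)⁻¹) :=
      congrArg Subtype.val hxy
    have h2 : x'⁻¹ * x = u ^ 1 * (y' * y⁻¹) * (u ^ 1)⁻¹ := by
      have e : x = x' * (u ^ 1 * y' * (u ^ 1)⁻¹) * (u ^ 1 * y * (u ^ 1)⁻¹)⁻¹ := by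
        rw [← h1]; group
      rw [e]; group
    have h3 : y' * y⁻¹ = 1 := by
      refine e2b h P (x'⁻¹ * x) (y' * y⁻¹) (u ^ 1)
        (coprime_of_mem_sylow hrp R (mul_mem (inv_mem hx1') hx1)) ?_ ?_
        (huk 1 Nat.one_pos hpp.one_lt) h2
      · intro z hz
        exact ((hx3' z hz).inv_left).mul_left (hx3 z hz)
      · intro z hz
        exact (hy3' z hz).mul_left ((hy3 z hz).inv_left)
    have h4 : y' = y := mul_inv_eq_one.mp h3
    subst h4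
    have h5 : x = x' := mul_right_cancel h1
    subst h5
    rfl
  · set Om0 := {x : G // x ∈ R ∧ x ^ r = 1 ∧ ∀ z ∈ P, Commute x z} with hOm0
    let e1 : Om0 := ⟨1, one_mem _, one_pow _, fun z _ => Commute.one_left z⟩
    have hcard : Nat.card (Option (Fin p × {y : Om0 // y ≠ e1})) = 1 + p * (Nat.card Om0 - 1) := by
      rw [Finite.card_option, Nat.card_prod, card_subtype_ne, Nat.card_eq_fintype_card,
        Fintype.card_fin, add_comm]
    rw [← hcard]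
    let F : Option (Fin p × {y : Om0 // y ≠ e1}) → {x : G // x ∈ R ∧ x ^ r = 1} := fun o =>
      match o with
      | none => ⟨1, one_mem _, one_pow _⟩
      | some x => ⟨u ^ (x.1 : ℕ) * ((x.2 : Om0) : G) * (u ^ (x.1 : ℕ))⁻¹,
          hconj x.1 _ ⟨(x.2 : Om0).2.1, (x.2 : Om0).2.2.1⟩⟩
    have hne : ∀ y : {y : Om0 // y ≠ e1}, ((y : Om0) : G) ≠ 1 := by
      intro y hy
      exact y.2 (Subtype.ext hy)
    have key : ∀ (i j : ℕ) (y y' : {y : Om0 // y ≠ e1}), i < j → j < p →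
        u ^ i * ((y : Om0) : G) * (u ^ i)⁻¹ ≠ u ^ j * ((y' : Om0) : G) * (u ^ j)⁻¹ := by
      intro i j y y' hij hjp heq
      apply hne y'
      have h2 : ((y : Om0) : G) = u ^ (j - i) * ((y' : Om0) : G) * (u ^ (j - i))⁻¹ := by
        have e : u ^ j = u ^ i * u ^ (j - i) := by rw [← pow_add]; congr 1; omega
        rw [e] at heq
        have := congrArg (fun t => (u ^ i)⁻¹ * t * u ^ i) heq
        calc ((y : Om0) : G) = (u ^ i)⁻¹ * (u ^ i * ((y : Om0) : G) * (u ^ i)⁻¹) * u ^ i := by group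
          _ = (u ^ i)⁻¹ * (u ^ i * u ^ (j - i) * ((y' : Om0) : G) * (u ^ i * u ^ (j - i))⁻¹) * u ^ i :=
              this
          _ = u ^ (j - i) * ((y' : Om0) : G) * (u ^ (j - i))⁻¹ := by group
      exact e2b h P _ _ (u ^ (j - i)) (coprime_of_mem_sylow hrp R (y : Om0).2.1)
        (y : Om0).2.2.2 (y' : Om0).2.2.2 (huk (j - i) (by omega) (by omega)) h2
    refine Nat.card_le_card_of_injective F ?_
    intro a b hab
    have hab' : ((F a) : G) = ((F b) : G) := congrArg Subtype.val hab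
    match a, b, hab' with
    | none, none, _ => rfl
    | none, some x, hx =>
      exfalso
      apply hne x.2
      have h1 : (1 : G) = u ^ (x.1 : ℕ) * ((x.2 : Om0) : G) * (u ^ (x.1 : ℕ))⁻¹ := hx
      have := congrArg (fun t => (u ^ (x.1 : ℕ))⁻¹ * t * u ^ (x.1 : ℕ)) h1
      simpa [mul_assoc] using this.symm
    | some x, none, hx =>
      exfalso
      apply hne x.2
      have h1 : u ^ (x.1 : ℕ) * ((x.2 : Om0) : G) * (u ^ (x.1 : ℕ))⁻¹ = 1 := hx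
      have := congrArg (fun t => (u ^ (x.1 : ℕ))⁻¹ * t * u ^ (x.1 : ℕ)) h1
      simpa [mul_assoc] using this
    | some ⟨i, y⟩, some ⟨j, y'⟩, hx =>
      have h1 : u ^ (i : ℕ) * ((y : Om0) : G) * (u ^ (i : ℕ))⁻¹ =
          u ^ (j : ℕ) * ((y' : Om0) : G) * (u ^ (j : ℕ))⁻¹ := hx
      rcases lt_trichotomy (i : ℕ) (j : ℕ) with hij | hij | hij
      · exact absurd h1 (key i j y y' hij j.2)
      · have hij' : i = j := Fin.ext hij
        subst hij'
        have h2 : ((y : Om0) : G) = ((y' : Om0) : G) := by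
          have := congrArg (fun t => (u ^ (i : ℕ))⁻¹ * t * u ^ (i : ℕ)) h1
          simpa [mul_assoc] using this
        have h3 : y = y' := Subtype.ext (Subtype.ext h2)
        subst h3
        rfl
      · exact absurd h1.symm (key j i y' y hij i.2)

end Cfsg.Agent.Lib.Helper42.CYA
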