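import Cfsg.Agent.Lib.Helper42.CYA.Defs
import Cfsg.Agent.Lib.Helper42.CYA.E2A
import Cfsg.Agent.Lib.Helper42.CYA.E2C1
import Cfsg.Agent.Lib.Helper42.CYA.E2C2
import Cfsg.Agent.Lib.Helper42.CYA.E2C3

/-! Ladder CYA (S4016), rung E2C. -/

namespace Cfsg.Agent.Lib.Helper42.CYA

open Subgroup

variable {G : Type*} [Group G] [Finite G] {p : ℕ} [Fact p.Prime]

/-- E2C -/
theorem e2c (h : Ctx p G) (P : Sylow p G) {r : ℕ} [Fact r.Prime] (a : G) (ha : orderOf a = r)
    (hrp : r ≠ p) (hc : ∀ x ∈ P, Commute a x) : r = 2 ∧ p = 3 := by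
  have hpp : p.Prime := Fact.out
  have hrr : r.Prime := Fact.out
  obtain ⟨R, haR⟩ := exists_sylow_of_pelem (p := r) a 1 (by rw [pow_one, ← ha, pow_orderOf_eq_one])
  obtain ⟨hRM, u, huN, huk⟩ := e2a h P a ha hrp hc R haR
  have h1 := e2c2 h P hrp R hRM
  obtain ⟨h2, h3⟩ := e2c3 h P hrp R u huN huk
  have h5 := e2c1 h P a ha hrp hc
  have h4 : r ≤ Nat.card {x : G // x ∈ R ∧ x ^ r = 1 ∧ ∀ z ∈ P, Commute x z} := by
    have hwd : ∀ x : zpowers a, (x : G) ∈ R ∧ (x : G) ^ r = 1 ∧ ∀ z ∈ P, Commute (x : G) z := by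
      rintro ⟨x, hx⟩
      obtain ⟨k, rfl⟩ := mem_zpowers_iff.mp hx
      refine ⟨zpow_mem haR k, ?_, fun z hz => (hc z hz).zpow_left k⟩
      show (a ^ k) ^ r = 1
      rw [← zpow_natCast, ← zpow_mul, mul_comm, zpow_mul, zpow_natCast, ← ha, pow_orderOf_eq_one,
        one_zpow]
    have h6 : Nat.card (zpowers a) ≤
        Nat.card {x : G // x ∈ R ∧ x ^ r = 1 ∧ ∀ z ∈ P, Commute x z} := by
      refine Nat.card_le_card_of_injective (fun x => ⟨(x : G), hwd x⟩) ?_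
      intro x y hxy
      have h7 : (x : G) = (y : G) := congrArg (fun t : {x : G // x ∈ R ∧ x ^ r = 1 ∧
        ∀ z ∈ P, Commute x z} => (t : G)) hxy
      exact Subtype.ext h7
    rwa [Nat.card_zpowers, ha] at h6
  generalize Nat.card {x : G // x ∈ R ∧ x ^ r = 1 ∧ ∀ z ∈ P, Commute x z} = m at h1 h2 h3 h4
  generalize Nat.card {x : G // x ∈ R ∧ x ^ r = 1} = n at h1 h2 h3
  have hr2 : 2 ≤ r := hrr.two_le
  have hp2 : 2 ≤ p := hpp.two_le
  have hm : m ≤ r := by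
    by_contra hlt
    push Not at hlt
    have : r * m < m ^ 2 := by rw [pow_two]; exact Nat.mul_lt_mul_of_pos_right hlt (by omega)
    omega
  have hmr : m = r := le_antisymm hm h4
  subst hmr
  have h6 : 1 + p * (m - 1) ≤ m * m := h3.trans h1
  have h7 : p ≤ m + 1 := by
    obtain ⟨t, rfl⟩ : ∃ t, m = t + 1 := ⟨m - 1, by omega⟩
    simp only [Nat.add_sub_cancel] at h6
    have ht : 0 < t := by omega
    by_contra hlt
    push Not at hlt
    have : (t + 1 + 2) * t ≤ p * t := Nat.mul_le_mul_right t (by omega)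
    nlinarith
  have h8 : m ≤ p - 1 := Nat.le_of_dvd (by omega) h5
  have h9 : p = m + 1 := by omega
  have hpodd : Odd p := hpp.odd_of_ne_two h.p_ne_two
  have hmeven : Even m := by
    rw [h9] at hpodd
    by_contra hne
    have := Nat.not_even_iff_odd.mp hne
    exact (Nat.not_even_iff_odd.mpr hpodd) (this.add_one)
  have hm2 : m = 2 := (Nat.Prime.even_iff hrr).mp hmeven
  exact ⟨hm2, by omega⟩

end Cfsg.Agent.Lib.Helper42.CYA
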