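import Cfsg.Agent.Lib.Helper42.CYA.Defs
import Cfsg.Agent.Lib.Helper42.CYA.DICH
import Cfsg.Agent.Lib.Helper42.CYA.E2A
import Cfsg.Agent.Lib.Helper42.CYA.E2B
import Cfsg.Agent.Lib.Helper42.CYA.E2C1

/-! Ladder CYA (S4016), rung E2D. -/

namespace Cfsg.Agent.Lib.Helper42.CYA

open Subgroup

variable {G : Type*} [Group G] [Finite G] {p : ℕ} [Fact p.Prime]

/-- for `p = 3`: an element of `N(P)` centralizes or inverts an element of order 3 of `P` -/
theorem cent_or_inv (h : Ctx p G) (hp : p = 3) (P : Sylow p G) (z : G) (hzP : z ∈ P)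
    (hzo : orderOf z = p) (x : G) (hx : x ∈ normalizer ((P : Subgroup G) : Set G)) :
    Commute x z ∨ x * z * x⁻¹ = z⁻¹ := by
  obtain ⟨k, hk, _⟩ := act_exists z hzo x (h.norm_zpowers P hzP hx) (orderOf x)
    (pow_orderOf_eq_one x)
  have hz3 : z ^ 3 = 1 := by rw [← hp, ← hzo, pow_orderOf_eq_one]
  have hk' : z ^ k = z ^ (k % 3) := by
    have := pow_mod_orderOf z k
    rw [hzo, hp] at this
    exact this.symm
  rw [hk'] at hk
  have hlt : k % 3 < 3 := Nat.mod_lt _ (by norm_num)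
  have hz1 : z ≠ 1 := by
    rintro rfl
    rw [orderOf_one] at hzo
    omega
  interval_cases hkk : k % 3
  · exfalso
    apply hz1
    rw [pow_zero] at hk
    have := congrArg (fun t => x⁻¹ * t * x) hk
    simpa [mul_assoc] using this
  · left
    rw [pow_one] at hk
    show x * z = z * x
    calc x * z = (x * z * x⁻¹) * x := by group
      _ = z * x := by rw [hk]
  · right
    rw [hk]
    apply eq_inv_of_mul_eq_one_left
    rw [← pow_succ, hz3]

/-- E2D: the Sylow 2-subgroup is a four-group -/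
theorem e2d (h : Ctx p G) (hp : p = 3) (P : Sylow p G) (a : G) (ha : orderOf a = 2)
    (hc : ∀ x ∈ P, Commute a x) (T : Sylow 2 G) (haT : a ∈ T) :
    (∀ x ∈ T, (∀ z ∈ P, Commute x z) → x = 1 ∨ x = a) ∧
      ∃ b ∈ T, orderOf b = 2 ∧ b ≠ a ∧ Commute a b ∧ IsConj a b ∧ IsConj a (a * b) ∧
        (∀ x ∈ T, x = 1 ∨ x = a ∨ x = b ∨ x = a * b) ∧
        b ∈ normalizer ((P : Subgroup G) : Set G) ∧ ∀ z ∈ P, b * z * b⁻¹ = z⁻¹ := by
  have hpp : p.Prime := Fact.out
  have h2p : (2 : ℕ) ≠ p := Ne.symm h.p_ne_two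
  have ha1 : a ≠ 1 := invol_ne_one ha
  obtain ⟨hTM, u, huN, huk⟩ := e2a h P a ha h2p hc T haT
  have hu1 : u ∉ normalizer ((P : Subgroup G) : Set G) := by
    have := huk 1 Nat.one_pos hpp.one_lt
    rwa [pow_one] at this
  have hu2 : u ^ 2 ∉ normalizer ((P : Subgroup G) : Set G) := huk 2 (by norm_num) (by omega)
  obtain ⟨z, hzP, hzo⟩ := h.exists_order_p P
  have hz1 : z ≠ 1 := by
    rintro rfl
    rw [orderOf_one] at hzo
    exact hpp.one_lt.ne hzo
  have hcop : ∀ x ∈ T, (orderOf x).Coprime p := fun x hx => coprime_of_mem_sylow h2p T hx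
  have hdich : ∀ x ∈ T, Commute x z → ∀ w ∈ P, Commute x w := fun x hx hxz =>
    dich (P : Subgroup G) P.isPGroup' (h.cyc P) x (hTM hx) (hcop x hx) z hzP hz1 hxz
  -- Fact B
  have factB : ∀ x ∈ T, ∀ y ∈ T, (¬ ∀ w ∈ P, Commute x w) → (¬ ∀ w ∈ P, Commute y w) →
      ∀ w ∈ P, Commute (y⁻¹ * x) w := by
    intro x hx y hy hxn hyn
    have hx' : x * z * x⁻¹ = z⁻¹ :=
      (cent_or_inv h hp P z hzP hzo x (hTM hx)).resolve_left (fun hcz => hxn (hdich x hx hcz))
    have hy' : y * z * y⁻¹ = z⁻¹ :=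
      (cent_or_inv h hp P z hzP hzo y (hTM hy)).resolve_left (fun hcz => hyn (hdich y hy hcz))
    apply hdich _ (mul_mem (inv_mem hy) hx)
    show y⁻¹ * x * z = z * (y⁻¹ * x)
    calc y⁻¹ * x * z = y⁻¹ * (x * z * x⁻¹) * x := by group
      _ = y⁻¹ * (y * z * y⁻¹) * x := by rw [hx', hy']
      _ = z * (y⁻¹ * x) := by group
  -- Fact C
  have factC : ∀ (g : G), g ∈ normalizer ((T : Subgroup G) : Set G) →
      g ∉ normalizer ((P : Subgroup G) : Set G) → ∀ x ∈ T, (∀ w ∈ P, Commute x w) → x ≠ 1 →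
      g * x * g⁻¹ ∈ T ∧ ¬ ∀ w ∈ P, Commute (g * x * g⁻¹) w := by
    intro g hgN hgM x hx hxc hx1
    have hmem : g * x * g⁻¹ ∈ T := (mem_normalizer_iff.mp hgN x).mp hx
    exact ⟨hmem, fun hcc => hx1 (e2b h P _ x g (hcop _ hmem) hcc hxc hgM rfl)⟩
  have hT0 : ∀ x ∈ T, (∀ z ∈ P, Commute x z) → x = 1 ∨ x = a := by
    intro x hx hxc
    by_cases hx1 : x = 1
    · exact Or.inl hx1
    right
    obtain ⟨h1, h2⟩ := factC u huN hu1 x hx hxc hx1
    obtain ⟨h3, h4⟩ := factC u huN hu1 a haT hc ha1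
    have h5 := factB _ h1 _ h3 h2 h4
    have e : (u * a * u⁻¹)⁻¹ * (u * x * u⁻¹) = u * (a⁻¹ * x) * u⁻¹ := by group
    have h6 : a⁻¹ * x = 1 :=
      e2b h P _ (a⁻¹ * x) u (hcop _ (mul_mem (inv_mem h3) h1)) h5
        (fun w hw => ((hc w hw).inv_left).mul_left (hxc w hw)) hu1 e
    exact (inv_mul_eq_one.mp h6).symm
  refine ⟨hT0, ?_⟩
  obtain ⟨hbT, hbn⟩ := factC u huN hu1 a haT hc ha1
  set b := u * a * u⁻¹ with hb
  have hbo : orderOf b = 2 := by
    have : orderOf (u * a * u⁻¹) = orderOf a := by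
      simpa using orderOf_injective (MulAut.conj u).toMonoidHom (MulAut.conj u).injective a
    rw [hb, this, ha]
  have hba : b ≠ a := fun hba => hbn (hba ▸ hc)
  have hcomm : Commute a b := h.sylow_comm' h2p T haT hbT
  have hlist : ∀ x ∈ T, x = 1 ∨ x = a ∨ x = b ∨ x = a * b := by
    intro x hx
    by_cases hxc : ∀ w ∈ P, Commute x w
    · rcases hT0 x hx hxc with h1 | h1
      · exact Or.inl h1
      · exact Or.inr (Or.inl h1)
    · have h1 := factB x hx b hbT hxc hbn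
      rcases hT0 _ (mul_mem (inv_mem hbT) hx) h1 with h2 | h2
      · right; right; left
        exact (inv_mul_eq_one.mp h2).symm
      · right; right; right
        rw [hcomm.eq, ← h2]; group
  refine ⟨b, hbT, hbo, hba, hcomm, isConj_iff.mpr ⟨u, rfl⟩, ?_, hlist, hTM hbT, ?_⟩
  · obtain ⟨hb'T, hb'n⟩ := factC (u ^ 2) (pow_mem huN 2) hu2 a haT hc ha1
    have hcj : IsConj a (u ^ 2 * a * (u ^ 2)⁻¹) := isConj_iff.mpr ⟨u ^ 2, rfl⟩
    rcases hlist _ hb'T with h1 | h1 | h1 | h1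
    · exfalso
      apply hb'n
      rw [h1]
      exact fun w _ => Commute.one_left w
    · exfalso
      apply hb'n
      rw [h1]
      exact hc
    · exfalso
      apply hba
      have e : u ^ 2 * a * (u ^ 2)⁻¹ = u * b * u⁻¹ := by rw [hb, pow_two]; group
      rw [e] at h1
      have h2 : u * b * u⁻¹ = u * a * u⁻¹ := h1
      have := congrArg (fun t => u⁻¹ * t * u) h2
      simpa [mul_assoc] using this
    · rw [← h1]; exact hcj
  · intro w hw
    have hbb := invol_mul_self hbo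
    have hbi := invol_inv hbo
    have hw' : b * w * b⁻¹ ∈ P := (mem_normalizer_iff.mp (hTM hbT) w).mp hw
    set v := w * (b * w * b⁻¹) with hv
    have hvP : v ∈ P := mul_mem hw hw'
    have hbv : Commute b v := by
      have h1 : b * v * b⁻¹ = (b * w * b⁻¹) * w := by
        rw [hv, hbi]
        calc b * (w * (b * w * b)) * b = b * w * b * w * (b * b) := by group
          _ = b * w * b * w := by rw [hbb, mul_one]
      rw [h.sylow_comm P hw' hw] at h1
      show b * v = v * b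
      calc b * v = (b * v * b⁻¹) * b := by group
        _ = v * b := by rw [h1]
    by_cases hv1 : v = 1
    · exact (eq_inv_of_mul_eq_one_right hv1)
    · exfalso
      exact hbn (dich (P : Subgroup G) P.isPGroup' (h.cyc P) b (hTM hbT) (hcop b hbT) v hvP hv1 hbv)

end Cfsg.Agent.Lib.Helper42.CYA
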