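import Cfsg.Agent.Lib.Helper42.CYA.Defs
import Cfsg.Agent.Lib.Helper42.CYA.E2C
import Cfsg.Agent.Lib.Helper42.CYA.E2D

/-! Ladder CYA (S4016), rung E2E. -/

namespace Cfsg.Agent.Lib.Helper42.CYA

open Subgroup

variable {G : Type*} [Group G] [Finite G] {p : ℕ} [Fact p.Prime]

/-- E2E: `a` is the only nontrivial `p'`-element centralizing `P` -/
theorem e2e (h : Ctx p G) (P : Sylow p G) (a : G) (ha : orderOf a = 2)
    (hc : ∀ x ∈ P, Commute a x) (e : G) (he : e ≠ 1) (hep : (orderOf e).Coprime p)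
    (hec : ∀ x ∈ P, Commute e x) : e = a := by
  have hpp : p.Prime := Fact.out
  have h2p : (2 : ℕ) ≠ p := Ne.symm h.p_ne_two
  have hp : p = 3 := (e2c h P a ha h2p hc).2
  have hprime : ∀ {q : ℕ}, q.Prime → q ∣ orderOf e → q = 2 := by
    intro q hq hqe
    haveI : Fact q.Prime := ⟨hq⟩
    have hqp : q ≠ p := by
      rintro rfl
      have : q ∣ Nat.gcd (orderOf e) q := Nat.dvd_gcd hqe dvd_rfl
      rw [hep] at this
      exact hq.one_lt.ne' (Nat.dvd_one.mp this)
    exact (e2c h P (e ^ (orderOf e / q)) (orderOf_pow_orderOf_div (orderOf_pos e).ne' hqe) hqp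
      (fun x hx => (hec x hx).pow_left _)).1
  have hpow := Nat.eq_prime_pow_of_unique_prime_dvd (orderOf_pos e).ne' hprime
  obtain ⟨T', heT'⟩ := exists_sylow_of_pelem (p := 2) e _ (by rw [← hpow, pow_orderOf_eq_one])
  have h2e : 2 ∣ orderOf e := by
    have ho : orderOf e ≠ 1 := fun h1 => he (orderOf_eq_one_iff.mp h1)
    obtain ⟨q, hq, hqe⟩ := Nat.exists_prime_and_dvd ho
    rw [← hprime hq hqe]; exact hqe
  have heo : orderOf e = 2 := by
    have ha' : orderOf (e ^ (orderOf e / 2)) = 2 :=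
      orderOf_pow_orderOf_div (orderOf_pos e).ne' h2e
    rcases (e2d h hp P _ ha' (fun x hx => (hec x hx).pow_left _) T' (pow_mem heT' _)).1 e heT' hec
      with h1 | h1
    · exact absurd h1 he
    · rw [h1]; exact ha'
  have hcen := h.cen P a (invol_ne_one ha) (ha ▸ h.two_coprime) hc
  have hea : Commute e a := by
    have h1 : e ∈ normalizer ((P : Subgroup G) : Set G) := by
      apply Cfsg.Agent.Lib.Helper11.mem_normalizer_of_conj_mem
      intro d hd
      have : e * d * e⁻¹ = d := by rw [(hec d hd).eq]; group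
      rw [this]; exact hd
    rw [← hcen, mem_centralizer_singleton_iff] at h1
    exact h1
  have hz : ∀ x : G, orderOf x = 2 → IsPGroup 2 (zpowers x) := by
    intro x hx
    rw [IsPGroup.iff_card]
    exact ⟨1, by rw [Nat.card_zpowers, hx, pow_one]⟩
  have hle : zpowers a ≤ normalizer ((zpowers e : Subgroup G) : Set G) := by
    rw [zpowers_le]
    apply Cfsg.Agent.Lib.Helper11.mem_normalizer_of_conj_mem
    intro d hd
    obtain ⟨n, rfl⟩ := mem_zpowers_iff.mp hd
    have : a * e ^ n * a⁻¹ = e ^ n := by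
      rw [((hea.symm).zpow_right n).eq]; group
    rw [this]; exact hd
  have hV : IsPGroup 2 (zpowers a ⊔ zpowers e : Subgroup G) :=
    IsPGroup.to_sup_of_normal_right' (hz a ha) (hz e heo) hle
  obtain ⟨T, hT⟩ := hV.exists_le_sylow
  have haT : a ∈ T := hT (le_sup_left (a := zpowers a) (mem_zpowers a))
  have heT : e ∈ T := hT (le_sup_right (a := zpowers a) (mem_zpowers e))
  rcases (e2d h hp P a ha hc T haT).1 e heT hec with h1 | h1
  · exact absurd h1 he
  · exact h1

end Cfsg.Agent.Lib.Helper42.CYA
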