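import Cfsg.Agent.Lib.Helper42.CYA.Defs
import Cfsg.Agent.Lib.Helper42.CYA.DICH
import Cfsg.Agent.Lib.Helper42.CYA.COMM
import Cfsg.Agent.Lib.Helper42.CYA.E2D
import Cfsg.Agent.Lib.Helper42.CYA.E2E
import Cfsg.Agent.S3282

/-! Ladder CYA (S4016), rung E2F1. -/

namespace Cfsg.Agent.Lib.Helper42.CYA

open Subgroup
open scoped Pointwise

variable {G : Type*} [Group G] [Finite G] {p : ℕ} [Fact p.Prime]

theorem mem_zpowers_invol {a y : G} (ha : orderOf a = 2) (hy : y ∈ zpowers a) : y = 1 ∨ y = a := by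
  obtain ⟨n, rfl⟩ := mem_powers_iff_mem_zpowers.mpr hy
  have h1 := pow_mod_orderOf a n
  rw [ha] at h1
  show a ^ n = 1 ∨ a ^ n = a
  rw [← h1]
  have hlt : n % 2 < 2 := Nat.mod_lt _ (by norm_num)
  interval_cases n % 2
  · left; simp
  · right; simp

/-- a `p`-element (`p` odd) with trivial square is trivial -/
theorem Ctx.eq_one_of_sq (h : Ctx p G) (P : Sylow p G) {w : G} (hw : w ∈ P) (hw2 : w * w = 1) :
    w = 1 := by
  obtain ⟨k, hk⟩ := sylow_pelem P w hw
  refine eq_one_of_pelem_of_coprime w k hk ?_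
  have h1 : orderOf w ∣ 2 := orderOf_dvd_of_pow_eq_one (by rw [pow_two]; exact hw2)
  exact Nat.Coprime.coprime_dvd_left h1 h.two_coprime

/-- E2F1: Brauer-Suzuki-Wall (S3282) applies with `t = a`, `K = P × ⟨a⟩`, `s = b` -/
theorem e2f1 (h : Ctx p G) (hp : p = 3) (P : Sylow p G) (a : G) (ha : orderOf a = 2)
    (hc : ∀ x ∈ P, Commute a x) :
    ∃ Q D : Subgroup G, 2 * Nat.card G = Nat.card ↥Q * (Nat.card ↥Q + 1) * (Nat.card ↥Q - 1) ∧
      (∀ x ∈ Q, x ≠ 1 → centralizer ({x} : Set G) = Q) ∧ IsMulCommutative ↥D ∧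
      2 * Nat.card ↥D + 1 = Nat.card ↥Q ∧ Q ⊓ D = ⊥ ∧ normalizer (Q : Set G) = Q ⊔ D ∧
      ∀ X : Subgroup G, X ≤ D → X ≠ ⊥ → normalizer (X : Set G) = normalizer (D : Set G) ∧
        ∃ u : G, orderOf u = 2 ∧ u ∉ D ∧ (∀ d ∈ D, u * d * u⁻¹ = d⁻¹) ∧
          normalizer (D : Set G) = D ⊔ zpowers u := by
  have hpp : p.Prime := Fact.out
  have ha1 : a ≠ 1 := invol_ne_one ha
  have haa := invol_mul_self ha
  have hai := invol_inv ha
  have hcen := h.cen P a ha1 (ha ▸ h.two_coprime) hc
  obtain ⟨T, haT⟩ := exists_sylow_of_pelem (p := 2) a 1 (by rw [pow_one, pow_two, haa])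
  obtain ⟨hT0, b, hbT, hbo, hba, hab, hcj1, hcj2, hlist, hbN, hbinv⟩ := e2d h hp P a ha hc T haT
  have hbb := invol_mul_self hbo
  obtain ⟨z, hzP, hzo⟩ := h.exists_order_p P
  have hz1 : z ≠ 1 := by
    rintro rfl
    rw [orderOf_one] at hzo
    exact hpp.one_lt.ne hzo
  have hle : zpowers a ≤ normalizer ((P : Subgroup G) : Set G) := by
    rw [zpowers_le, ← hcen, mem_centralizer_singleton_iff]
  set K : Subgroup G := zpowers a ⊔ (P : Subgroup G) with hK
  have hKmem : ∀ x, x ∈ K ↔ ∃ w ∈ P, x = w ∨ x = a * w := by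
    intro x
    rw [← SetLike.mem_coe, hK, Subgroup.coe_mul_of_left_le_normalizer_right _ _ hle, Set.mem_mul]
    constructor
    · rintro ⟨y, hy, w, hw, rfl⟩
      rcases mem_zpowers_invol ha hy with h1 | h1
      · exact ⟨w, hw, Or.inl (by rw [h1, one_mul])⟩
      · exact ⟨w, hw, Or.inr (by rw [h1])⟩
    · rintro ⟨w, hw, h1 | h1⟩
      · exact ⟨1, one_mem _, w, hw, by rw [h1, one_mul]⟩
      · exact ⟨a, mem_zpowers a, w, hw, h1.symm⟩
  have hPP : ∀ w ∈ P, ∀ w' ∈ P, Commute w w' := fun w hw w' hw' => h.sylow_comm P hw hw'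
  have hKcomm : ∀ x ∈ K, ∀ y ∈ K, Commute x y := by
    intro x hx y hy
    obtain ⟨w, hw, h1 | h1⟩ := (hKmem x).mp hx <;> obtain ⟨w', hw', h2 | h2⟩ := (hKmem y).mp hy <;>
      rw [h1, h2]
    · exact hPP w hw w' hw'
    · exact ((hc w hw).symm).mul_right (hPP w hw w' hw')
    · exact (hc w' hw').mul_left (hPP w hw w' hw')
    · exact ((Commute.refl a).mul_right (hc w' hw')).mul_left
        (((hc w hw).symm).mul_right (hPP w hw w' hw'))
  have hPK : (P : Subgroup G) ≤ K := le_sup_right
  have haK : a ∈ K := le_sup_left (a := zpowers a) (mem_zpowers a)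
  have hKC : K ≤ centralizer ({a} : Set G) := by
    intro x hx
    rw [mem_centralizer_singleton_iff]
    exact (hKcomm x hx a haK).eq
  have hbz : ¬ Commute b z := by
    intro hcz
    apply hz1
    apply h.eq_one_of_sq P hzP
    have h1 := hbinv z hzP
    have h2 : b * z * b⁻¹ = z := by rw [hcz.eq]; group
    rw [h2] at h1
    calc z * z = z * z⁻¹ := by rw [← h1]
      _ = 1 := by group
  have hbK : b ∉ K := fun hbK => hbz (hKcomm b hbK z (hPK hzP))
  have hbC : b ∈ centralizer ({a} : Set G) := by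
    rw [mem_centralizer_singleton_iff]; exact hab.eq.symm
  -- elements of `N(P)` centralizing `z` lie in `K`
  have hcz : ∀ m ∈ normalizer ((P : Subgroup G) : Set G), Commute m z → m ∈ K := by
    intro m hm hmz
    obtain ⟨u, c, hu, hcz, hm', ⟨k, hk⟩, hcc⟩ := Cfsg.Agent.Lib.Helper71.exists_p_decomp p m
    have hzm : zpowers m ≤ normalizer ((P : Subgroup G) : Set G) := by rw [zpowers_le]; exact hm
    have huP : u ∈ P := mem_of_pelem P u (hzm hu) k hk
    have hcz' : Commute c z := by
      obtain ⟨n, rfl⟩ := mem_zpowers_iff.mp hcz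
      exact hmz.zpow_left n
    have hcP := dich (P : Subgroup G) P.isPGroup' (h.cyc P) c (hzm hcz) hcc z hzP hz1 hcz'
    rw [hm']
    by_cases hc1 : c = 1
    · rw [hc1, mul_one]; exact hPK huP
    · rw [e2e h P a ha hc c hc1 hcc hcP]
      exact mul_mem (hPK huP) haK
  have hH : K ⊔ zpowers b = centralizer ({a} : Set G) := by
    apply le_antisymm
    · exact sup_le hKC (by rw [zpowers_le]; exact hbC)
    · intro m hm
      have hmN : m ∈ normalizer ((P : Subgroup G) : Set G) := hcen ▸ hm
      rcases cent_or_inv h hp P z hzP hzo m hmN with h1 | h1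
      · exact le_sup_left (a := K) (hcz m hmN h1)
      · have h2 : Commute (m * b) z := by
          show m * b * z = z * (m * b)
          have e1 : b * z = z⁻¹ * b := by
            calc b * z = (b * z * b⁻¹) * b := by group
              _ = z⁻¹ * b := by rw [hbinv z hzP]
          have e2 : m * z⁻¹ = z * m := by
            have : m * z⁻¹ * m⁻¹ = z := by
              have e3 : m * z⁻¹ * m⁻¹ = (m * z * m⁻¹)⁻¹ := by group
              rw [e3, h1, inv_inv]
            calc m * z⁻¹ = (m * z⁻¹ * m⁻¹) * m := by group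
              _ = z * m := by rw [this]
          calc m * b * z = m * (b * z) := by group
            _ = (m * z⁻¹) * b := by rw [e1]; group
            _ = z * (m * b) := by rw [e2]; group
        have h3 := hcz (m * b) (mul_mem hmN hbN) h2
        have e : m = (m * b) * b⁻¹ := by group
        rw [e]
        exact mul_mem (le_sup_left (a := K) h3)
          (le_sup_right (a := K) (inv_mem (mem_zpowers b)))
  have hCK : K ⊓ centralizer ({b} : Set G) = zpowers a := by
    apply le_antisymm
    · rintro x ⟨hxK, hxb⟩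
      have hxb' : x * b = b * x := mem_centralizer_singleton_iff.mp hxb
      have hw1 : ∀ w ∈ P, Commute b w → w = 1 := by
        intro w hw hbw
        apply h.eq_one_of_sq P hw
        have h1 := hbinv w hw
        have h2 : b * w * b⁻¹ = w := by rw [hbw.eq]; group
        rw [h2] at h1
        calc w * w = w * w⁻¹ := by rw [← h1]
          _ = 1 := by group
      obtain ⟨w, hw, h1 | h1⟩ := (hKmem x).mp hxK
      · rw [h1, hw1 w hw (by rw [← h1]; exact hxb'.symm)]
        exact one_mem _
      · have h2 : Commute b w := by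
          have h3 : Commute b (a * w) := by rw [← h1]; exact hxb'.symm
          have h4 : Commute b (a⁻¹ * (a * w)) := (hab.symm.inv_right).mul_right h3
          simpa using h4
        rw [h1, hw1 w hw h2, mul_one]
        exact mem_zpowers a
    · rw [zpowers_le]
      have haCb : a ∈ centralizer ({b} : Set G) := by
        rw [mem_centralizer_singleton_iff]; exact hab.eq
      exact ⟨haK, haCb⟩
  have hinv : ∀ x ∈ K, b * x * b⁻¹ = x⁻¹ := by
    intro x hx
    obtain ⟨w, hw, h1 | h1⟩ := (hKmem x).mp hx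
    · rw [h1]; exact hbinv w hw
    · rw [h1]
      have e1 : b * (a * w) * b⁻¹ = (b * a * b⁻¹) * (b * w * b⁻¹) := by group
      have e2 : b * a * b⁻¹ = a := by rw [hab.symm.eq]; group
      rw [e1, e2, hbinv w hw, mul_inv_rev, hai]
      exact ((hc w hw).inv_right).eq
  have hsq : ∀ x ∈ K, ∃ w ∈ P, (x = w ∨ x = a * w) ∧ x * x = w * w := by
    intro x hx
    obtain ⟨w, hw, h1 | h1⟩ := (hKmem x).mp hx
    · exact ⟨w, hw, Or.inl h1, by rw [h1]⟩
    · refine ⟨w, hw, Or.inr h1, ?_⟩
      rw [h1]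
      calc a * w * (a * w) = a * (w * a) * w := by group
        _ = a * (a * w) * w := by rw [(hc w hw).eq]
        _ = (a * a) * (w * w) := by group
        _ = w * w := by rw [haa, one_mul]
  have hTI : ∀ g : G, g ∉ centralizer ({a} : Set G) →
      K ⊓ K.map (MulAut.conj g).toMonoidHom = ⊥ := by
    intro g hg
    rw [eq_bot_iff]
    rintro x ⟨hxK, y, hyK, hyx⟩
    have hyx' : g * y * g⁻¹ = x := hyx
    rw [mem_bot]
    by_contra hx1
    apply hg
    obtain ⟨w, hw, hxw, hxx⟩ := hsq x hxK
    obtain ⟨w', hw', hyw, hyy⟩ := hsq y hyK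
    have hww : w * w = g * (w' * w') * g⁻¹ := by
      rw [← hxx, ← hyy, ← hyx']; group
    by_cases hw2 : w * w = 1
    · have hw1 : w = 1 := h.eq_one_of_sq P hw hw2
      have hw2' : w' * w' = 1 := by
        rw [hw2] at hww
        have := congrArg (fun t => g⁻¹ * t * g) hww
        simpa [mul_assoc] using this.symm
      have hw1' : w' = 1 := h.eq_one_of_sq P hw' hw2'
      have hxa : x = a := by
        rcases hxw with h1 | h1
        · exact absurd (h1.trans hw1) hx1
        · rw [h1, hw1, mul_one]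
      have hya : y = a := by
        rcases hyw with h1 | h1
        · exfalso
          apply hx1
          rw [← hyx', h1, hw1']; group
        · rw [h1, hw1', mul_one]
      rw [mem_centralizer_singleton_iff]
      rw [hxa, hya] at hyx'
      calc g * a = (g * a * g⁻¹) * g := by group
        _ = a * g := by rw [hyx']
    · rw [hcen]
      set v := w * w with hv
      have hvP : v ∈ P := mul_mem hw hw
      have hzv : zpowers v ≤ (P : Subgroup G) := by rw [zpowers_le]; exact hvP
      have hzv1 : zpowers v ≠ ⊥ := by rw [Ne, zpowers_eq_bot]; exact hw2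
      have hnl := h.norm_le P (zpowers v) hzv hzv1
      apply Cfsg.Agent.Lib.Helper11.mem_normalizer_of_conj_mem
      intro d hd
      have hdv : Commute (g * d * g⁻¹) v := by
        rw [hww]
        have h1 : d * (w' * w') = (w' * w') * d := (hPP d hd _ (mul_mem hw' hw')).eq
        show g * d * g⁻¹ * (g * (w' * w') * g⁻¹) = g * (w' * w') * g⁻¹ * (g * d * g⁻¹)
        calc g * d * g⁻¹ * (g * (w' * w') * g⁻¹) = g * (d * (w' * w')) * g⁻¹ := by group
          _ = g * ((w' * w') * d) * g⁻¹ := by rw [h1]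
          _ = g * (w' * w') * g⁻¹ * (g * d * g⁻¹) := by group
      have hdN : g * d * g⁻¹ ∈ normalizer ((zpowers v : Subgroup G) : Set G) := by
        apply Cfsg.Agent.Lib.Helper11.mem_normalizer_of_conj_mem
        intro t ht
        obtain ⟨n, rfl⟩ := mem_zpowers_iff.mp ht
        have : g * d * g⁻¹ * v ^ n * (g * d * g⁻¹)⁻¹ = v ^ n := by
          rw [(hdv.zpow_right n).eq]; group
        rw [this]; exact ht
      obtain ⟨k, hk⟩ := sylow_pelem P d hd
      exact mem_of_pelem P _ (hnl hdN) k (by rw [conj_pow, hk]; group)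
  have hconj1 : ∀ x : G, orderOf x = 2 → IsConj a x := by
    intro x hx
    obtain ⟨T', hxT'⟩ := exists_sylow_of_pelem (p := 2) x 1
      (by rw [pow_one, pow_two, invol_mul_self hx])
    obtain ⟨g, hg⟩ := MulAction.exists_smul_eq G T T'
    have hx' : g⁻¹ * x * g ∈ T := by
      have h1 : x ∈ ((g • T : Sylow 2 G) : Subgroup G) := by rw [hg]; exact hxT'
      rw [Sylow.coe_subgroup_smul, Subgroup.mem_pointwise_smul_iff_inv_smul_mem] at h1
      have h2 : g⁻¹ * x * g ∈ (T : Subgroup G) := by simpa [MulAut.smul_def] using h1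
      exact h2
    have hcjx : IsConj (g⁻¹ * x * g) x := isConj_iff.mpr ⟨g, by group⟩
    rcases hlist _ hx' with h1 | h1 | h1 | h1
    · exfalso
      apply invol_ne_one hx
      have := congrArg (fun t => g * t * g⁻¹) h1
      simpa [mul_assoc] using this
    · rw [h1] at hcjx; exact hcjx
    · rw [h1] at hcjx; exact hcj1.trans hcjx
    · rw [h1] at hcjx; exact hcj2.trans hcjx
  exact Cfsg.Agent.S3282.result a ha K ⟨⟨fun x y => Subtype.ext (hKcomm x x.2 y y.2).eq⟩⟩ hKC haK b
    hbo hbC hbK hH hCK hinv hTI (fun x y hx hy => (hconj1 x hx).symm.trans (hconj1 y hy))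

end Cfsg.Agent.Lib.Helper42.CYA
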