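import Cfsg.Agent.Lib.Helper42.CYA.Defs
import Cfsg.Agent.Lib.Helper42.CYA.COMM
import Cfsg.Agent.Lib.Helper42.CYA.E2D
import Cfsg.Agent.Lib.Helper42.CYA.E2F1

/-! Ladder CYA (S4016), rung E2F2. -/

namespace Cfsg.Agent.Lib.Helper42.CYA

open Subgroup
open scoped Pointwise

variable {G : Type*} [Group G] [Finite G] {p : ℕ} [Fact p.Prime]

/-- an element of order `p` is conjugate into `P` -/
theorem exists_conj_mem (P : Sylow p G) (x : G) (hx : orderOf x = p) :
    ∃ g w : G, w ∈ P ∧ x = g * w * g⁻¹ := by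
  obtain ⟨S, hS⟩ := exists_sylow_of_pelem (p := p) x 1 (by rw [pow_one, ← hx, pow_orderOf_eq_one])
  obtain ⟨g, hg⟩ := MulAction.exists_smul_eq G P S
  have h1 : x ∈ ((g • P : Sylow p G) : Subgroup G) := by rw [hg]; exact hS
  rw [Sylow.coe_subgroup_smul, Subgroup.mem_pointwise_smul_iff_inv_smul_mem] at h1
  have h2 : g⁻¹ * x * g ∈ (P : Subgroup G) := by simpa [MulAut.smul_def] using h1
  exact ⟨g, g⁻¹ * x * g, h2, by group⟩

/-- E2F2: the final contradiction of case E2 -/
theorem e2f2 (h : Ctx p G) (hp : p = 3) (P : Sylow p G) (a : G) (ha : orderOf a = 2)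
    (hc : ∀ x ∈ P, Commute a x)
    (hQD : ∃ Q D : Subgroup G, 2 * Nat.card G = Nat.card ↥Q * (Nat.card ↥Q + 1) * (Nat.card ↥Q - 1) ∧
      (∀ x ∈ Q, x ≠ 1 → centralizer ({x} : Set G) = Q) ∧ IsMulCommutative ↥D ∧
      2 * Nat.card ↥D + 1 = Nat.card ↥Q ∧ Q ⊓ D = ⊥ ∧ normalizer (Q : Set G) = Q ⊔ D ∧
      ∀ X : Subgroup G, X ≤ D → X ≠ ⊥ → normalizer (X : Set G) = normalizer (D : Set G) ∧
        ∃ u : G, orderOf u = 2 ∧ u ∉ D ∧ (∀ d ∈ D, u * d * u⁻¹ = d⁻¹) ∧
          normalizer (D : Set G) = D ⊔ zpowers u) : False := by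
  have hpp : p.Prime := Fact.out
  obtain ⟨Q, D, hcard, hQc, hDab, hDQ, hQD0, hNQ, hX⟩ := hQD
  have ha1 : a ≠ 1 := invol_ne_one ha
  have haa := invol_mul_self ha
  obtain ⟨T, haT⟩ := exists_sylow_of_pelem (p := 2) a 1 (by rw [pow_one, pow_two, haa])
  obtain ⟨hT0, b, hbT, hbo, hba, hab, hcj1, hcj2, hlist, hbN, hbinv⟩ := e2d h hp P a ha hc T haT
  have hbb := invol_mul_self hbo
  have hord : ∀ g t : G, orderOf (g * t * g⁻¹) = orderOf t := by
    intro g t
    simpa using orderOf_injective (MulAut.conj g).toMonoidHom (MulAut.conj g).injective t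
  -- Q ≠ 1
  obtain ⟨x0, hx0, hx01⟩ : ∃ x0 ∈ Q, x0 ≠ 1 := by
    by_contra hcon
    push Not at hcon
    have hQ1 : Q = ⊥ := (Subgroup.eq_bot_iff_forall _).mpr hcon
    have hc1 : Nat.card Q = 1 := by rw [hQ1]; exact Subgroup.card_bot
    rw [hc1] at hcard
    have : 0 < Nat.card G := Nat.card_pos
    omega
  -- step 1
  have hQp : ¬ p ∣ Nat.card Q := by
    intro hd
    obtain ⟨x, hx⟩ := exists_prime_orderOf_dvd_card' p hd
    have hx' : orderOf (x : G) = p := by rw [Subgroup.orderOf_coe]; exact hx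
    have hx1 : (x : G) ≠ 1 := by
      intro h1
      rw [h1, orderOf_one] at hx'
      exact hpp.one_lt.ne hx'
    obtain ⟨g, w, hw, hxw⟩ := exists_conj_mem P (x : G) hx'
    have hCx := hQc x x.2 hx1
    have ha'Q : g * a * g⁻¹ ∈ Q := by
      rw [← hCx, mem_centralizer_singleton_iff, hxw]
      calc g * a * g⁻¹ * (g * w * g⁻¹) = g * (a * w) * g⁻¹ := by group
        _ = g * (w * a) * g⁻¹ := by rw [(hc w hw).eq]
        _ = g * w * g⁻¹ * (g * a * g⁻¹) := by group
    have ha'1 : g * a * g⁻¹ ≠ 1 := by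
      intro h1
      have := hord g a
      rw [h1, orderOf_one, ha] at this
      omega
    have hCa' := hQc _ ha'Q ha'1
    have hb'Q : g * b * g⁻¹ ∈ Q := by
      rw [← hCa', mem_centralizer_singleton_iff]
      calc g * b * g⁻¹ * (g * a * g⁻¹) = g * (b * a) * g⁻¹ := by group
        _ = g * (a * b) * g⁻¹ := by rw [hab.eq]
        _ = g * a * g⁻¹ * (g * b * g⁻¹) := by group
    rw [← hCx, mem_centralizer_singleton_iff, hxw] at hb'Q
    have hbw : b * w = w * b := by
      have := congrArg (fun t => g⁻¹ * t * g) hb'Q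
      simpa [mul_assoc] using this
    have hw1 : w = 1 := by
      apply h.eq_one_of_sq P hw
      have h1 := hbinv w hw
      have h2 : b * w * b⁻¹ = w := by rw [hbw]; group
      rw [h2] at h1
      calc w * w = w * w⁻¹ := by rw [← h1]
        _ = 1 := by group
    apply hx1
    rw [hxw, hw1]; group
  -- step 2
  have hDprime : ∀ q : ℕ, q.Prime → q ∣ Nat.card D → q = p := by
    intro q hq hqd
    by_contra hqp
    haveI : Fact q.Prime := ⟨hq⟩
    obtain ⟨d, hd⟩ := exists_prime_orderOf_dvd_card' q hqd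
    have hd' : orderOf (d : G) = q := by rw [Subgroup.orderOf_coe]; exact hd
    have hdp : (orderOf (d : G)).Coprime p := by
      rw [hd']; exact (Nat.coprime_primes hq hpp).mpr hqp
    have hdN : (d : G) ∈ normalizer (Q : Set G) := by
      rw [hNQ]; exact le_sup_right (a := Q) d.2
    have h1 := comm_of_normalizes h.ab Q hQp d hdN hdp x0 hx0
    have h2 : (d : G) ∈ Q := by
      rw [← hQc x0 hx0 hx01, mem_centralizer_singleton_iff]
      exact h1.eq
    have h3 : (d : G) ∈ Q ⊓ D := ⟨h2, d.2⟩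
    rw [hQD0, mem_bot] at h3
    rw [h3, orderOf_one] at hd'
    exact hq.one_lt.ne hd'
  have hinvD : ∀ t : G, orderOf t = 2 → t ∉ D := by
    intro t ht htD
    have h1 : 2 ∣ Nat.card D := ht ▸ Subgroup.orderOf_dvd_natCard D htD
    exact h.p_ne_two (hDprime 2 Nat.prime_two h1).symm
  -- step 3
  by_cases hD1 : Nat.card D = 1
  · apply hQp
    rw [← hDQ, hD1, hp]
  · obtain ⟨q, hq, hqd⟩ := Nat.exists_prime_and_dvd hD1
    have hqp := hDprime q hq hqd
    subst hqp
    obtain ⟨d, hd⟩ := exists_prime_orderOf_dvd_card' q hqd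
    have hd' : orderOf (d : G) = q := by rw [Subgroup.orderOf_coe]; exact hd
    have hd1 : (d : G) ≠ 1 := by
      intro h1
      rw [h1, orderOf_one] at hd'
      exact hpp.one_lt.ne hd'
    obtain ⟨g, w, hw, hdw⟩ := exists_conj_mem P (d : G) hd'
    obtain ⟨hN1, u, huo, huD, huinv, hND⟩ := hX (zpowers (d : G)) (by rw [zpowers_le]; exact d.2)
      (by rw [Ne, zpowers_eq_bot]; exact hd1)
    have hnorm : ∀ t : G, (t * d * t⁻¹ = d ∨ t * d * t⁻¹ = (d : G)⁻¹) →
        t ∈ normalizer ((zpowers (d : G) : Subgroup G) : Set G) := by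
      intro t ht
      apply Cfsg.Agent.Lib.Helper11.mem_normalizer_of_conj_mem
      intro y hy
      obtain ⟨n, rfl⟩ := mem_zpowers_iff.mp hy
      rw [← conj_zpow]
      rcases ht with h1 | h1 <;> rw [h1]
      · exact zpow_mem (mem_zpowers _) n
      · exact zpow_mem (inv_mem (mem_zpowers _)) n
    have ha'N : g * a * g⁻¹ ∈ D ⊔ zpowers u := by
      rw [← hND, ← hN1]
      apply hnorm
      left
      rw [hdw]
      calc g * a * g⁻¹ * (g * w * g⁻¹) * (g * a * g⁻¹)⁻¹ = g * (a * w) * a⁻¹ * g⁻¹ := by group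
        _ = g * (w * a) * a⁻¹ * g⁻¹ := by rw [(hc w hw).eq]
        _ = g * w * g⁻¹ := by group
    have hb'N : g * b * g⁻¹ ∈ D ⊔ zpowers u := by
      rw [← hND, ← hN1]
      apply hnorm
      right
      rw [hdw]
      calc g * b * g⁻¹ * (g * w * g⁻¹) * (g * b * g⁻¹)⁻¹ = g * (b * w * b⁻¹) * g⁻¹ := by group
        _ = g * w⁻¹ * g⁻¹ := by rw [hbinv w hw]
        _ = (g * w * g⁻¹)⁻¹ := by group
    have huN : zpowers u ≤ normalizer (D : Set G) := by
      rw [hND]; exact le_sup_right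
    have hmem : ∀ t ∈ D ⊔ zpowers u, t ∉ D → ∃ e ∈ D, t = e * u := by
      intro t ht htD
      rw [← SetLike.mem_coe, Subgroup.coe_mul_of_right_le_normalizer_left _ _ huN, Set.mem_mul] at ht
      obtain ⟨e, he, y, hy, rfl⟩ := ht
      rcases mem_zpowers_invol huo hy with h1 | h1
      · exfalso
        apply htD
        rw [h1, mul_one]; exact he
      · exact ⟨e, he, by rw [h1]⟩
    obtain ⟨e1, he1, h1⟩ := hmem _ ha'N (hinvD _ (by rw [hord]; exact ha))
    obtain ⟨e2, he2, h2⟩ := hmem _ hb'N (hinvD _ (by rw [hord]; exact hbo))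
    have h3 : g * (a * b⁻¹) * g⁻¹ ∈ D := by
      have e : g * (a * b⁻¹) * g⁻¹ = (g * a * g⁻¹) * (g * b * g⁻¹)⁻¹ := by group
      rw [e, h1, h2]
      have e' : e1 * u * (e2 * u)⁻¹ = e1 * e2⁻¹ := by group
      rw [e']
      exact mul_mem he1 (inv_mem he2)
    apply hinvD _ _ h3
    rw [hord, invol_inv hbo]
    apply orderOf_eq_prime
    · rw [pow_two]
      calc a * b * (a * b) = a * (b * a) * b := by group
        _ = a * (a * b) * b := by rw [hab.eq]
        _ = (a * a) * (b * b) := by group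
        _ = 1 := by rw [haa, hbb, one_mul]
    · intro h4
      apply hba
      have : b = a⁻¹ := eq_inv_of_mul_eq_one_right h4
      rw [this, invol_inv ha]

end Cfsg.Agent.Lib.Helper42.CYA
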