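import Cfsg.Agent.Lib.Helper42.CYA.Defs

/-! Ladder CYA (S4016), rung HER. -/

namespace Cfsg.Agent.Lib.Helper42.CYA

open Subgroup

variable {G : Type*} [Group G] [Finite G] {p : ℕ} [Fact p.Prime]

/-- HER: the hypothesis passes to subgroups -/
theorem hyp_subgroup (h : Hyp p G) (H : Subgroup G) : Hyp p H := by
  refine ⟨fun Q => ?_, fun L hL => ?_⟩
  · have hA : IsPGroup p ((Q : Subgroup H).map H.subtype) := Q.isPGroup'.map _
    obtain ⟨P, hP⟩ := hA.exists_le_sylow
    have hcyc : IsCyclic P := h.1 P
    let f : Q →* P :=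
      { toFun := fun x => ⟨((x : H) : G), hP ⟨x, x.2, rfl⟩⟩
        map_one' := rfl
        map_mul' := fun a b => rfl }
    have hf : Function.Injective f := by
      intro a b hab
      have : ((f a : P) : G) = ((f b : P) : G) := congrArg Subtype.val hab
      exact Subtype.ext (Subtype.ext this)
    exact isCyclic_of_injective f hf
  · have hc : Nat.card (L.map H.subtype) = Nat.card L :=
      Nat.card_congr (Subgroup.equivMapOfInjective L H.subtype H.subtype_injective).symm.toEquiv
    have h1 := h.2 (L.map H.subtype) (by rw [hc]; exact hL)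
    refine ⟨⟨fun a b => ?_⟩⟩
    have h2 := h1.is_comm.comm ⟨((a : H) : G), ⟨a, a.2, rfl⟩⟩ ⟨((b : H) : G), ⟨b, b.2, rfl⟩⟩
    have h3 : ((a : H) : G) * ((b : H) : G) = ((b : H) : G) * ((a : H) : G) :=
      congrArg Subtype.val h2
    exact Subtype.ext (Subtype.ext h3)

/-- HER: the hypothesis passes to quotients by normal `p'`-subgroups -/
theorem hyp_quotient (h : Hyp p G) (K : Subgroup G) [K.Normal] (hK : ¬ p ∣ Nat.card K) :
    Hyp p (G ⧸ K) := by
  have hpp : p.Prime := Fact.out
  refine ⟨fun Q => ?_, fun L hL => ?_⟩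
  · obtain ⟨P⟩ : Nonempty (Sylow p G) := inferInstance
    have hcyc : IsCyclic P := h.1 P
    have hsurj : Function.Surjective (QuotientGroup.mk' K) := QuotientGroup.mk'_surjective K
    have hcyc2 : IsCyclic (P.mapSurjective hsurj) := by
      have : IsCyclic ((P : Subgroup G).map (QuotientGroup.mk' K)) :=
        isCyclic_of_surjective ((QuotientGroup.mk' K).subgroupMap (P : Subgroup G))
          ((QuotientGroup.mk' K).subgroupMap_surjective _)
      exact this
    obtain ⟨g, rfl⟩ := MulAction.exists_smul_eq (G ⧸ K) (P.mapSurjective hsurj) Q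
    exact isCyclic_of_surjective ((P.mapSurjective hsurj).equivSMul g).toMonoidHom
      ((P.mapSurjective hsurj).equivSMul g).surjective
  · set M : Subgroup G := L.comap (QuotientGroup.mk' K) with hM
    have hMp : ¬ p ∣ Nat.card M := by
      intro hd
      obtain ⟨x, hx⟩ := exists_prime_orderOf_dvd_card' p hd
      have hx' : orderOf (x : G) = p := by rw [Subgroup.orderOf_coe]; exact hx
      have h1 : orderOf (QuotientGroup.mk' K (x : G)) ∣ p := by
        rw [← hx']; exact orderOf_map_dvd _ _
      rcases (Nat.dvd_prime hpp).mp h1 with h2 | h2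
      · have h3 : (x : G) ∈ K := by
          rw [← QuotientGroup.eq_one_iff]
          exact orderOf_eq_one_iff.mp h2
        apply hK
        rw [← hx']
        exact Subgroup.orderOf_dvd_natCard K h3
      · apply hL
        rw [← h2]
        exact Subgroup.orderOf_dvd_natCard L x.2
    have h1 := h.2 M hMp
    refine ⟨⟨fun a b => ?_⟩⟩
    obtain ⟨a', ha'⟩ := QuotientGroup.mk'_surjective K (a : G ⧸ K)
    obtain ⟨b', hb'⟩ := QuotientGroup.mk'_surjective K (b : G ⧸ K)
    have haM : a' ∈ M := by rw [hM, mem_comap, ha']; exact a.2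
    have hbM : b' ∈ M := by rw [hM, mem_comap, hb']; exact b.2
    have h2 : a' * b' = b' * a' := congrArg Subtype.val (h1.is_comm.comm ⟨a', haM⟩ ⟨b', hbM⟩)
    apply Subtype.ext
    show (a : G ⧸ K) * (b : G ⧸ K) = (b : G ⧸ K) * (a : G ⧸ K)
    rw [← ha', ← hb', ← map_mul, ← map_mul, h2]

end Cfsg.Agent.Lib.Helper42.CYA
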