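import Cfsg.Agent.Lib.Helper42.CYA.Defs
import Cfsg.Agent.Lib.Helper42.CYA.DICH
import Cfsg.Agent.Lib.Helper42.CYA.COMM
import Cfsg.Agent.Lib.Helper42.CYA.BURN
import Cfsg.Agent.Lib.Helper42.CYA.E1A

/-! Ladder CYA (S4016), rung L1. -/

namespace Cfsg.Agent.Lib.Helper42.CYA

open Subgroup

variable {G : Type*} [Group G] [Finite G] {p : ℕ} [Fact p.Prime]

theorem Hyp.sylow_comm (h : Hyp p G) (S : Sylow p G) {a b : G} (ha : a ∈ S) (hb : b ∈ S) :
    a * b = b * a := by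
  have hcyc : IsCyclic S := h.1 S
  letI := IsCyclic.commGroup (α := S)
  exact congrArg Subtype.val (mul_comm (⟨a, ha⟩ : S) ⟨b, hb⟩)

/-- if one Sylow subgroup is normal then all are -/
theorem concl_of_normal (P : Sylow p G) (hP : (P : Subgroup G).Normal) : Concl p G := by
  right
  intro Q
  obtain ⟨g, rfl⟩ := MulAction.exists_smul_eq G P Q
  rw [Sylow.smul_eq_of_normal]
  exact hP

/-- L1 -/
theorem l1 (h : Hyp p G) (P : Sylow p G) (K : Subgroup G) (hKn : K.Normal)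
    (hK : ¬ p ∣ Nat.card K) (hPK : ((P : Subgroup G) ⊔ K).Normal) : Concl p G := by
  have hpp : p.Prime := Fact.out
  by_cases hn : normalizer ((P : Subgroup G) : Set G) ≤ centralizer ((P : Subgroup G) : Set G)
  · exact Or.inl (npc_of_normalizer_le P hn)
  obtain ⟨g, hgN, hgC⟩ := SetLike.not_le_iff_exists.mp hn
  obtain ⟨u, c, hu, hcz, hg', ⟨k, hk⟩, hcc⟩ := Cfsg.Agent.Lib.Helper71.exists_p_decomp p g
  have hzg : zpowers g ≤ normalizer ((P : Subgroup G) : Set G) := by rw [zpowers_le]; exact hgN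
  have huP : u ∈ P := mem_of_pelem P u (hzg hu) k hk
  have hcN := hzg hcz
  have hcC : ¬ ∀ z ∈ P, Commute c z := by
    intro hc
    apply hgC
    rw [mem_centralizer_iff]
    intro z hz
    rw [hg']
    have h1 : z * u = u * z := h.sylow_comm P hz huP
    have h2 : c * z = z * c := (hc z hz).eq
    calc z * (u * c) = (z * u) * c := by group
      _ = u * (z * c) := by rw [h1]; group
      _ = u * c * z := by rw [← h2]; group
  have hfree : ∀ x ∈ P, Commute c x → x = 1 := by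
    intro x hx hcx
    by_contra hx1
    exact hcC (dich (P : Subgroup G) P.isPGroup' (h.1 P) c hcN hcc x hx hx1 hcx)
  have hcK : ∀ v ∈ K, Commute c v :=
    comm_of_normalizes h.2 K hK c (by rw [normalizer_eq_top_iff.mpr hKn]; trivial) hcc
  have hconj : ∀ x ∈ P, c * x * c⁻¹ ∈ P := fun x hx => (mem_normalizer_iff.mp hcN x).mp hx
  let φ : P → P := fun x => ⟨(x : G)⁻¹ * (c * x * c⁻¹), mul_mem (inv_mem x.2) (hconj x x.2)⟩
  have hφinj : Function.Injective φ := by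
    intro x x' hxx
    have h1 : (x : G)⁻¹ * (c * x * c⁻¹) = (x' : G)⁻¹ * (c * x' * c⁻¹) := congrArg Subtype.val hxx
    have hd : (x : G) * (x' : G)⁻¹ ∈ P := mul_mem x.2 (inv_mem x'.2)
    have h2 : c * ((x : G) * (x' : G)⁻¹) * c⁻¹ = (x : G) * (x' : G)⁻¹ := by
      have e1 : c * x * c⁻¹ = (x : G) * ((x' : G)⁻¹ * (c * x' * c⁻¹)) := by rw [← h1]; group
      have e2 : c * ((x : G) * (x' : G)⁻¹) * c⁻¹ = (c * x * c⁻¹) * (c * x' * c⁻¹)⁻¹ := by group
      rw [e2, e1]; group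
    have h3 : Commute c ((x : G) * (x' : G)⁻¹) := by
      show c * _ = _ * c
      calc c * ((x : G) * (x' : G)⁻¹) = (c * ((x : G) * (x' : G)⁻¹) * c⁻¹) * c := by group
        _ = (x : G) * (x' : G)⁻¹ * c := by rw [h2]
    have h4 := hfree _ hd h3
    exact Subtype.ext (mul_inv_eq_one.mp h4)
  have hφsurj : Function.Surjective φ := Finite.injective_iff_surjective.mp hφinj
  have hPK' : ∀ y ∈ P, ∀ v ∈ K, y * v = v * y := by
    intro y hy v hv
    obtain ⟨x, hx⟩ := hφsurj ⟨y, hy⟩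
    have hy' : y = (x : G)⁻¹ * (c * x * c⁻¹) := (congrArg Subtype.val hx).symm
    have h1 : Commute c ((x : G) * v * (x : G)⁻¹) := hcK _ (hKn.conj_mem v hv x)
    have h2 : c * v = v * c := (hcK v hv).eq
    have h3 : (c * x * c⁻¹) * v * (c * x * c⁻¹)⁻¹ = (x : G) * v * (x : G)⁻¹ := by
      calc (c * x * c⁻¹) * v * (c * x * c⁻¹)⁻¹ = c * x * (c⁻¹ * (v * c)) * (x : G)⁻¹ * c⁻¹ := by
            group
        _ = c * x * (c⁻¹ * (c * v)) * (x : G)⁻¹ * c⁻¹ := by rw [h2]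
        _ = (c * ((x : G) * v * (x : G)⁻¹)) * c⁻¹ := by group
        _ = (((x : G) * v * (x : G)⁻¹) * c) * c⁻¹ := by rw [h1.eq]
        _ = (x : G) * v * (x : G)⁻¹ := by group
    rw [hy']
    calc (x : G)⁻¹ * (c * x * c⁻¹) * v
        = (x : G)⁻¹ * ((c * x * c⁻¹) * v * (c * x * c⁻¹)⁻¹) * (c * x * c⁻¹) := by group
      _ = (x : G)⁻¹ * ((x : G) * v * (x : G)⁻¹) * (c * x * c⁻¹) := by rw [h3]
      _ = v * ((x : G)⁻¹ * (c * x * c⁻¹)) := by group
  apply concl_of_normal P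
  refine ⟨fun a ha g => ?_⟩
  have h1 : g * a * g⁻¹ ∈ (P : Subgroup G) ⊔ K := hPK.conj_mem a (le_sup_left (a := (P : Subgroup G)) ha) g
  obtain ⟨x, hx, v, hv, hxv⟩ := (Subgroup.mem_sup_of_normal_right (ht := hKn)).mp h1
  obtain ⟨n1, hn1⟩ := sylow_pelem P a ha
  obtain ⟨n2, hn2⟩ := sylow_pelem P x hx
  have hc : Commute x v := hPK' x hx v hv
  have e1 : (g * a * g⁻¹) ^ p ^ (n1 + n2) = 1 := by
    rw [conj_pow, pow_add, pow_mul, hn1, one_pow]; group
  have e2 : x ^ p ^ (n1 + n2) = 1 := by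
    rw [pow_add, mul_comm, pow_mul, hn2, one_pow]
  have e3 : v ^ p ^ (n1 + n2) = 1 := by
    rw [← hxv, hc.mul_pow, e2, one_mul] at e1
    exact e1
  have hvcop : (orderOf v).Coprime p :=
    Nat.Coprime.coprime_dvd_left (Subgroup.orderOf_dvd_natCard K hv)
      ((Nat.Prime.coprime_iff_not_dvd hpp).mpr hK).symm
  have hv1 : v = 1 := eq_one_of_pelem_of_coprime v _ e3 hvcop
  rw [← hxv, hv1, mul_one]
  exact hx

end Cfsg.Agent.Lib.Helper42.CYA
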