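import Cfsg.Agent.Lib.Helper42.CYA.Defs
import Cfsg.Agent.Lib.Helper42.CYA.DICH
import Cfsg.Agent.Lib.Helper42.CYA.COMM
import Cfsg.Agent.Lib.Helper42.CYA.BURN
import Cfsg.Agent.Lib.Helper42.CYA.L1

/-! Ladder CYA (S4016), rung OP. -/

namespace Cfsg.Agent.Lib.Helper42.CYA

open Subgroup

variable {G : Type*} [Group G] [Finite G] {p : ℕ} [Fact p.Prime]

/-- Burnside inside a subgroup `C ≥ P` -/
theorem exists_compl_in (P : Sylow p G) (C : Subgroup G) (hPC : (P : Subgroup G) ≤ C)
    (hN : ∀ c ∈ C, c ∈ normalizer ((P : Subgroup G) : Set G) →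
      c ∈ centralizer ((P : Subgroup G) : Set G)) :
    ∃ K : Subgroup G, (∀ x, x ∈ K ↔ (x ∈ C ∧ (orderOf x).Coprime p)) ∧ ¬ p ∣ Nat.card K ∧
      (P : Subgroup G) ⊔ K = C := by
  have hpp : p.Prime := Fact.out
  set Q : Sylow p C := P.subtype hPC with hQ
  have hQmem : ∀ x : C, x ∈ (Q : Subgroup C) ↔ (x : G) ∈ (P : Subgroup G) := fun x => Iff.rfl
  have hQn : normalizer ((Q : Subgroup C) : Set C) ≤ centralizer ((Q : Subgroup C) : Set C) := by
    intro c hc
    have hc' : (c : G) ∈ normalizer ((P : Subgroup G) : Set G) := by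
      apply Cfsg.Agent.Lib.Helper11.mem_normalizer_of_conj_mem
      intro d hd
      exact (hQmem _).mp ((mem_normalizer_iff.mp hc ⟨d, hPC hd⟩).mp ((hQmem _).mpr hd))
    have h1 := hN c c.2 hc'
    rw [mem_centralizer_iff]
    intro a ha
    apply Subtype.ext
    exact (mem_centralizer_iff.mp h1) a ((hQmem a).mp ha)
  set K := (MonoidHom.transferSylow Q hQn).ker with hK
  have hKp : ¬ p ∣ Nat.card K := MonoidHom.not_dvd_card_ker_transferSylow Q hQn
  have hcomp := MonoidHom.ker_transferSylow_isComplement' Q hQn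
  refine ⟨K.map C.subtype, fun x => ⟨?_, ?_⟩, ?_, ?_⟩
  · rintro ⟨k, hk, rfl⟩
    refine ⟨k.2, ?_⟩
    have h1 : orderOf ((C.subtype k : G)) ∣ Nat.card K := by
      rw [Subgroup.coe_subtype, Subgroup.orderOf_coe]
      exact Subgroup.orderOf_dvd_natCard K hk
    exact Nat.Coprime.coprime_dvd_left h1 ((Nat.Prime.coprime_iff_not_dvd hpp).mpr hKp).symm
  · rintro ⟨hxC, hx⟩
    refine ⟨⟨x, hxC⟩, ?_, rfl⟩
    show (⟨x, hxC⟩ : C) ∈ K
    rw [hK, MonoidHom.mem_ker]
    set t := MonoidHom.transferSylow Q hQn ⟨x, hxC⟩ with ht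
    have h1 : orderOf t ∣ orderOf x := by
      have := orderOf_map_dvd (MonoidHom.transferSylow Q hQn) (⟨x, hxC⟩ : C)
      rwa [← Subgroup.orderOf_coe (⟨x, hxC⟩ : C)] at this
    obtain ⟨k, hk⟩ := (Q.isPGroup' t)
    exact eq_one_of_pelem_of_coprime t k hk (Nat.Coprime.coprime_dvd_left h1 hx)
  · rw [Nat.card_congr (Subgroup.equivMapOfInjective K C.subtype C.subtype_injective).symm.toEquiv]
    exact hKp
  · have h1 : K ⊔ (Q : Subgroup C) = ⊤ := hcomp.sup_eq_top
    have h2 := congrArg (Subgroup.map C.subtype) h1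
    rw [Subgroup.map_sup, ← MonoidHom.range_eq_map, Subgroup.range_subtype] at h2
    have h3 : (Q : Subgroup C).map C.subtype = (P : Subgroup G) := by
      show ((P : Subgroup G).subgroupOf C).map C.subtype = (P : Subgroup G)
      rw [Subgroup.subgroupOf_map_subtype, inf_eq_left.mpr hPC]
    rw [h3, sup_comm] at h2
    exact h2

/-- OP -/
theorem op (h : Hyp p G) (X : Subgroup G) (hXn : X.Normal) (hX : IsPGroup p X) (hX1 : X ≠ ⊥) :
    Concl p G := by
  obtain ⟨P, hXP⟩ := hX.exists_le_sylow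
  set C : Subgroup G := centralizer (X : Set G) with hC
  have hCn : C.Normal := by rw [hC]; infer_instance
  have hPC : (P : Subgroup G) ≤ C := by
    intro a ha
    rw [hC, mem_centralizer_iff]
    intro b hb
    exact h.sylow_comm P (hXP hb) ha
  obtain ⟨x0, hx0, hx01⟩ : ∃ w0 ∈ X, w0 ≠ 1 := by
    by_contra hcon
    push Not at hcon
    exact hX1 ((Subgroup.eq_bot_iff_forall _).mpr hcon)
  obtain ⟨K, hKmem, hKp, hPK⟩ := exists_compl_in P C hPC (by
    intro c hcC hcN
    obtain ⟨u, c', hu, hcz, hg', ⟨k, hk⟩, hcc⟩ := Cfsg.Agent.Lib.Helper71.exists_p_decomp p c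
    have hzN : zpowers c ≤ normalizer ((P : Subgroup G) : Set G) := by rw [zpowers_le]; exact hcN
    have hzC : zpowers c ≤ C := by rw [zpowers_le]; exact hcC
    have huP : u ∈ P := mem_of_pelem P u (hzN hu) k hk
    have hc'x : Commute c' x0 := ((mem_centralizer_iff.mp (hzC hcz)) x0 hx0).symm
    have hc'P := dich (P : Subgroup G) P.isPGroup' (h.1 P) c' (hzN hcz) hcc x0 (hXP hx0) hx01 hc'x
    rw [mem_centralizer_iff]
    intro z hz
    rw [hg']
    have h1 : z * u = u * z := h.sylow_comm P hz huP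
    have h2 : c' * z = z * c' := (hc'P z hz).eq
    calc z * (u * c') = (z * u) * c' := by group
      _ = u * (z * c') := by rw [h1]; group
      _ = u * c' * z := by rw [← h2]; group)
  have hKn : K.Normal := by
    refine ⟨fun a ha g => ?_⟩
    rw [hKmem] at ha ⊢
    refine ⟨hCn.conj_mem a ha.1 g, ?_⟩
    have : orderOf (g * a * g⁻¹) = orderOf a := by
      simpa using orderOf_injective (MulAut.conj g).toMonoidHom (MulAut.conj g).injective a
    rw [this]; exact ha.2
  exact l1 h P K hKn hKp (by rw [hPK]; exact hCn)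

end Cfsg.Agent.Lib.Helper42.CYA
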