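import Cfsg.Agent.Lib.Helper42.CYA.Defs
import Cfsg.Agent.Lib.Helper42.CYA.L1

/-! Ladder CYA (S4016), rung QUO. -/

namespace Cfsg.Agent.Lib.Helper42.CYA

open Subgroup
open scoped Pointwise

variable {G : Type*} [Group G] [Finite G] {p : ℕ} [Fact p.Prime]

/-- QUO: the conclusion lifts from quotients by normal `p'`-subgroups -/
theorem concl_of_quotient (h : Hyp p G) (K : Subgroup G) [hKn : K.Normal] (hK : ¬ p ∣ Nat.card K)
    (hq : Concl p (G ⧸ K)) : Concl p G := by
  have hpp : p.Prime := Fact.out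
  obtain ⟨P⟩ : Nonempty (Sylow p G) := inferInstance
  have hsurj : Function.Surjective (QuotientGroup.mk' K) := QuotientGroup.mk'_surjective K
  set Pb : Sylow p (G ⧸ K) := P.mapSurjective hsurj with hPb
  have hPbmem : ∀ y, y ∈ (Pb : Subgroup (G ⧸ K)) ↔ ∃ x ∈ (P : Subgroup G), QuotientGroup.mk' K x = y :=
    fun y => Iff.rfl
  rcases hq with hq | hq
  · left
    obtain ⟨Nb, hNb, hc⟩ := Cfsg.Agent.Lib.Helper11.isComplement'_of_hasNormalPComplement hq Pb
    refine ⟨P, Nb.comap (QuotientGroup.mk' K), hNb.comap _, ?_⟩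
    apply isComplement'_of_disjoint_and_mul_eq_univ
    · rw [disjoint_iff_inf_le]
      intro y hy
      have hy1 : QuotientGroup.mk' K y ∈ Nb := hy.1
      have hy2 : QuotientGroup.mk' K y ∈ (Pb : Subgroup (G ⧸ K)) := (hPbmem _).mpr ⟨y, hy.2, rfl⟩
      have hy3 : QuotientGroup.mk' K y = 1 := by
        have := hc.disjoint.le_bot ⟨hy1, hy2⟩
        simpa using this
      have hyK : y ∈ K := (QuotientGroup.eq_one_iff y).mp hy3
      obtain ⟨k, hk⟩ := sylow_pelem P y hy.2
      have hcop : (orderOf y).Coprime p :=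
        Nat.Coprime.coprime_dvd_left (Subgroup.orderOf_dvd_natCard K hyK)
          ((Nat.Prime.coprime_iff_not_dvd hpp).mpr hK).symm
      rw [mem_bot]
      exact eq_one_of_pelem_of_coprime y k hk hcop
    · rw [Set.eq_univ_iff_forall]
      intro g
      obtain ⟨⟨⟨n, hn⟩, ⟨y, hy⟩⟩, hny⟩ := hc.2 (QuotientGroup.mk' K g)
      have hny' : n * y = QuotientGroup.mk' K g := hny
      obtain ⟨x, hx, hxy⟩ := (hPbmem y).mp hy
      refine ⟨g * x⁻¹, ?_, x, hx, by group⟩
      show QuotientGroup.mk' K (g * x⁻¹) ∈ Nb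
      rw [map_mul, map_inv, hxy, ← hny']
      simpa using hn
  · have h1 := hq Pb
    have h2 : ((P : Subgroup G) ⊔ K).Normal := by
      have h3 : ((P : Subgroup G).map (QuotientGroup.mk' K)).comap (QuotientGroup.mk' K) =
          (P : Subgroup G) ⊔ K := by
        rw [Subgroup.comap_map_eq, QuotientGroup.ker_mk']
      rw [← h3]
      exact Subgroup.Normal.comap h1 _
    exact l1 h P K hKn hK h2

end Cfsg.Agent.Lib.Helper42.CYA
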