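import Cfsg.Agent.Lib.Helper42.CYA.Defs
import Cfsg.Agent.Lib.Helper42.CYA.OP
import Cfsg.Agent.Lib.Helper42.CYA.QUO

/-! Ladder CYA (S4016), rung RED. -/

namespace Cfsg.Agent.Lib.Helper42.CYA

open Subgroup

variable {G : Type*} [Group G] [Finite G] {p : ℕ} [Fact p.Prime]

/-- a normal complement of a Sylow `p`-subgroup is the set of `p'`-elements -/
theorem compl_mem_iff (Q : Sylow p G) (L : Subgroup G) (hL : L.Normal)
    (hc : L.IsComplement' (Q : Subgroup G)) (x : G) : x ∈ L ↔ (orderOf x).Coprime p := by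
  have hpp : p.Prime := Fact.out
  have h1 := hc.card_mul_card
  have h2 := (Q : Subgroup G).card_mul_index
  have h3 := L.card_mul_index
  have hLi : L.index = Nat.card (Q : Subgroup G) := by
    have : Nat.card L * L.index = Nat.card L * Nat.card (Q : Subgroup G) := by rw [h3, h1]
    exact Nat.eq_of_mul_eq_mul_left Nat.card_pos this
  have hLc : Nat.card L = (Q : Subgroup G).index := by
    have : Nat.card (Q : Subgroup G) * Nat.card L =
        Nat.card (Q : Subgroup G) * (Q : Subgroup G).index := by rw [h2, mul_comm, h1]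
    exact Nat.eq_of_mul_eq_mul_left Nat.card_pos this
  constructor
  · intro hx
    have h4 : orderOf x ∣ (Q : Subgroup G).index := hLc ▸ Subgroup.orderOf_dvd_natCard L hx
    exact Nat.Coprime.coprime_dvd_left h4
      ((Nat.Prime.coprime_iff_not_dvd hpp).mpr Q.not_dvd_index).symm
  · intro hx
    obtain ⟨n, hn⟩ := IsPGroup.iff_card.mp Q.isPGroup'
    have h4 : x ^ (p ^ n) ∈ L := by
      rw [← hn, ← hLi]
      exact L.pow_index_mem x
    have hcop : (orderOf x).Coprime (p ^ n) := Nat.Coprime.pow_right n hx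
    obtain ⟨t, ht⟩ := exists_pow_eq_self_of_coprime hcop.symm
    rw [← ht]
    exact L.pow_mem h4 t

/-- RED: reduction to simple groups -/
theorem red (h : Hyp p G) (hsub : ∀ H : Subgroup G, H ≠ ⊤ → Concl p H)
    (hquo : ∀ (K : Subgroup G) [K.Normal], K ≠ ⊥ → ¬ p ∣ Nat.card K → Concl p (G ⧸ K))
    (hn : ¬ Concl p G) : IsSimpleGroup G := by
  have hpp : p.Prime := Fact.out
  have hnt : Nontrivial G := by
    by_contra hnt
    rw [not_nontrivial_iff_subsingleton] at hnt
    apply hn
    right
    intro P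
    exact ⟨fun n hn g => by rw [Subsingleton.elim (g * n * g⁻¹) n]; exact hn⟩
  have F1 : ∀ K : Subgroup G, K.Normal → K ≠ ⊥ → ¬ p ∣ Nat.card K → False := by
    intro K hKn hK1 hKp
    exact hn (concl_of_quotient h K hKp (hquo K hK1 hKp))
  have F2 : ∀ X : Subgroup G, X.Normal → IsPGroup p X → X ≠ ⊥ → False := by
    intro X hXn hXp hX1
    exact hn (op h X hXn hXp hX1)
  have hord : ∀ g a : G, orderOf (g * a * g⁻¹) = orderOf a := by
    intro g a
    simpa using orderOf_injective (MulAut.conj g).toMonoidHom (MulAut.conj g).injective a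
  refine { exists_pair_ne := hnt.exists_pair_ne, eq_bot_or_eq_top_of_normal := ?_ }
  intro N hN
  by_contra hcon
  push Not at hcon
  obtain ⟨hN1, hN2⟩ := hcon
  rcases hsub N hN2 with ⟨Q, L, hL, hc⟩ | hq
  · have hmem := compl_mem_iff Q L hL hc
    have hKmem : ∀ y : G, y ∈ L.map N.subtype ↔ (y ∈ N ∧ (orderOf y).Coprime p) := by
      intro y
      constructor
      · rintro ⟨x, hx, rfl⟩
        refine ⟨x.2, ?_⟩
        rw [Subgroup.coe_subtype, Subgroup.orderOf_coe]
        exact (hmem x).mp hx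
      · rintro ⟨hy, hyc⟩
        refine ⟨⟨y, hy⟩, (hmem _).mpr ?_, rfl⟩
        rw [← Subgroup.orderOf_coe]
        exact hyc
    have hKn : (L.map N.subtype).Normal := by
      refine ⟨fun a ha g => ?_⟩
      rw [hKmem] at ha ⊢
      exact ⟨hN.conj_mem a ha.1 g, by rw [hord]; exact ha.2⟩
    have hKp : ¬ p ∣ Nat.card (L.map N.subtype) := by
      intro hd
      obtain ⟨x, hx⟩ := exists_prime_orderOf_dvd_card' p hd
      have h1 := ((hKmem x).mp x.2).2
      rw [Subgroup.orderOf_coe, hx, Nat.coprime_self] at h1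
      exact hpp.one_lt.ne' h1
    by_cases hK1 : L.map N.subtype = ⊥
    · have hL1 : L = ⊥ := by
        rw [Subgroup.map_eq_bot_iff_of_injective L N.subtype_injective] at hK1
        exact hK1
      rw [hL1, isComplement'_bot_left] at hc
      have hNp : IsPGroup p N := by
        have := Q.isPGroup'
        rw [hc] at this
        exact this.of_equiv Subgroup.topEquiv
      exact F2 N hN hNp hN1
    · exact F1 _ hKn hK1 hKp
  · obtain ⟨Q⟩ : Nonempty (Sylow p N) := inferInstance
    have hQn := hq Q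
    have hQmem : ∀ x : N, x ∈ (Q : Subgroup N) ↔ ∃ k : ℕ, x ^ p ^ k = 1 := by
      intro x
      constructor
      · intro hx
        exact sylow_pelem Q x hx
      · rintro ⟨k, hk⟩
        exact mem_of_pelem Q x (by rw [normalizer_eq_top_iff.mpr hQn]; trivial) k hk
    have hXmem : ∀ y : G, y ∈ (Q : Subgroup N).map N.subtype ↔ (y ∈ N ∧ ∃ k : ℕ, y ^ p ^ k = 1) := by
      intro y
      constructor
      · rintro ⟨x, hx, rfl⟩
        obtain ⟨k, hk⟩ := (hQmem x).mp hx
        exact ⟨x.2, k, by simpa using congrArg Subtype.val hk⟩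
      · rintro ⟨hy, k, hk⟩
        exact ⟨⟨y, hy⟩, (hQmem _).mpr ⟨k, Subtype.ext (by simpa using hk)⟩, rfl⟩
    have hXn : ((Q : Subgroup N).map N.subtype).Normal := by
      refine ⟨fun a ha g => ?_⟩
      rw [hXmem] at ha ⊢
      obtain ⟨haN, k, hk⟩ := ha
      exact ⟨hN.conj_mem a haN g, k, by rw [conj_pow, hk]; group⟩
    by_cases hX1 : (Q : Subgroup N).map N.subtype = ⊥
    · have hNp : ¬ p ∣ Nat.card N := by
        intro hd
        obtain ⟨x, hx⟩ := exists_prime_orderOf_dvd_card' p hd
        have h1 : (x : G) ∈ (Q : Subgroup N).map N.subtype := by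
          rw [hXmem]
          refine ⟨x.2, 1, ?_⟩
          rw [pow_one, ← hx, ← Subgroup.orderOf_coe, pow_orderOf_eq_one]
        rw [hX1, mem_bot] at h1
        have h2 : x = 1 := Subtype.ext h1
        rw [h2, orderOf_one] at hx
        exact hpp.one_lt.ne hx
      exact F1 N hN hN1 hNp
    · exact F2 _ hXn (Q.isPGroup'.map _) hX1

end Cfsg.Agent.Lib.Helper42.CYA
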