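import Cfsg.Agent.Lib.Helper42.CYA.Defs
import Cfsg.Agent.Lib.Helper42.CYA.HER
import Cfsg.Agent.Lib.Helper42.CYA.RED
import Cfsg.Agent.Lib.Helper42.CYA.BAS
import Cfsg.Agent.Lib.Helper42.CYA.MN
import Cfsg.Agent.Lib.Helper42.CYA.CEN
import Cfsg.Agent.Lib.Helper42.CYA.E1A
import Cfsg.Agent.Lib.Helper42.CYA.E1I
import Cfsg.Agent.Lib.Helper42.CYA.E2C
import Cfsg.Agent.Lib.Helper42.CYA.E2F1
import Cfsg.Agent.Lib.Helper42.CYA.E2F2

/-! Ladder CYA (S4016): assembly. -/

namespace Cfsg.Agent.Lib.Helper42.CYA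

open Subgroup

variable {G : Type*} [Group G] [Finite G] {p : ℕ} [Fact p.Prime]

theorem ctx_of_mc (h : MC p G) : Ctx p G where
  simple := h.simple
  nonab := h.nonab
  cyc := h.hyp.1
  ab := h.hyp.2
  ne_bot := h.ne_bot
  p_ne_two := h.p_ne_two
  norm_le := h.norm_le
  cen := h.cen

/-- case E2 is impossible -/
theorem caseE2 (h : Ctx p G) (P : Sylow p G) (e : G) (he : e ≠ 1) (hep : (orderOf e).Coprime p)
    (hc : ∀ x ∈ P, Commute e x) : False := by
  have ho : orderOf e ≠ 1 := fun h1 => he (orderOf_eq_one_iff.mp h1)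
  obtain ⟨r, hr, hre⟩ := Nat.exists_prime_and_dvd ho
  haveI : Fact r.Prime := ⟨hr⟩
  have hrp : r ≠ p := by
    rintro rfl
    have : r ∣ Nat.gcd (orderOf e) r := Nat.dvd_gcd hre dvd_rfl
    rw [hep] at this
    exact hr.one_lt.ne' (Nat.dvd_one.mp this)
  set a := e ^ (orderOf e / r) with ha
  have hao : orderOf a = r := orderOf_pow_orderOf_div (orderOf_pos e).ne' hre
  have hac : ∀ x ∈ P, Commute a x := fun x hx => (hc x hx).pow_left _
  obtain ⟨h2, h3⟩ := e2c h P a hao hrp hac
  subst h2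
  exact e2f2 h h3 P a hao hac (e2f1 h h3 P a hao hac)

theorem mc_false (h : MC p G) : False := by
  have hx := ctx_of_mc h
  by_cases hE : ∀ (P : Sylow p G) (e : G), (orderOf e).Coprime p → (∀ x ∈ P, Commute e x) → e = 1
  · exact (ca_of_E1 hx hE).false
  · push_neg at hE
    obtain ⟨P, e, hep, hc, he⟩ := hE
    exact caseE2 hx P e he hep hc

theorem main_aux : ∀ (n : ℕ) (G : Type*) [Group G] [Finite G], Nat.card G = n → Hyp p G →
    Concl p G := by
  intro n
  induction n using Nat.strong_induction_on with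
  | _ n ih =>
    intro G _ _ hn h
    by_contra hnc
    have hsub : ∀ H : Subgroup G, H ≠ ⊤ → Concl p H := by
      intro H hH
      refine ih (Nat.card H) ?_ H rfl (hyp_subgroup h H)
      rw [← hn]
      refine lt_of_le_of_ne (Subgroup.card_le_card_group H) ?_
      intro hc
      exact hH (Subgroup.eq_top_of_card_eq H hc)
    have hquo : ∀ (K : Subgroup G) [K.Normal], K ≠ ⊥ → ¬ p ∣ Nat.card K → Concl p (G ⧸ K) := by
      intro K _ hK hKp
      refine ih (Nat.card (G ⧸ K)) ?_ (G ⧸ K) rfl (hyp_quotient h K hKp)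
      rw [← hn, Subgroup.card_eq_card_quotient_mul_card_subgroup K]
      have h1 : 1 < Nat.card K := by
        rcases Nat.lt_or_ge 1 (Nat.card K) with h1 | h1
        · exact h1
        · exfalso
          have : Nat.card K = 1 := le_antisymm h1 Nat.card_pos
          exact hK (Subgroup.card_eq_one.mp this)
      have h2 : 0 < Nat.card (G ⧸ K) := Nat.card_pos
      nlinarith
    exact mc_false ⟨h, red h hsub hquo hnc, hsub, hnc⟩

theorem main (h : Hyp p G) : Concl p G := main_aux _ G rfl h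

end Cfsg.Agent.Lib.Helper42.CYA
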